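import Cfsg.Agent.Lib.Fi24Mult27.LowPoints

/-! Checks of the threefold cover, part 0. -/

set_option autoImplicit false
set_option maxRecDepth 20000
set_option Elab.async false

namespace Cfsg.Agent.Lib.Fi24Mult27

open Cfsg.Agent.Lib.CosetEnum (allBelow allFrom allFrom_iff)

theorem lab_part0_0 : allFrom 0 480 labOk = true := by decide +kernel

theorem lab_part0_1 : allFrom 480 480 labOk = true := by decide +kernel

theorem lab_part0_2 : allFrom 960 480 labOk = true := by decide +kernel

theorem lab_part0_3 : allFrom 1440 480 labOk = true := by decide +kernel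

theorem lab_part0_4 : allFrom 1920 480 labOk = true := by decide +kernel

theorem lab_part0_5 : allFrom 2400 480 labOk = true := by decide +kernel

theorem lab_part0_6 : allFrom 2880 480 labOk = true := by decide +kernel

theorem lab_part0_7 : allFrom 3360 480 labOk = true := by decide +kernel

theorem lab_part0_8 : allFrom 3840 480 labOk = true := by decide +kernel

theorem lab_part0_9 : allFrom 4320 480 labOk = true := by decide +kernel

theorem lab_part0_10 : allFrom 4800 480 labOk = true := by decide +kernel

theorem lab_part0_11 : allFrom 5280 480 labOk = true := by decide +kernel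

theorem lab_part0_12 : allFrom 5760 480 labOk = true := by decide +kernel

theorem lab_part0_13 : allFrom 6240 480 labOk = true := by decide +kernel

theorem lab_part0_14 : allFrom 6720 480 labOk = true := by decide +kernel

theorem lab_part0_15 : allFrom 7200 480 labOk = true := by decide +kernel

theorem labRange0 : ∀ i, 0 ≤ i → i < 7680 → labOk i = true := by
  intro i h1 h2
  by_cases h : i < 480
  · exact allFrom_iff.1 lab_part0_0 i (by omega) (by omega)
  by_cases h : i < 960
  · exact allFrom_iff.1 lab_part0_1 i (by omega) (by omega)
  by_cases h : i < 1440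
  · exact allFrom_iff.1 lab_part0_2 i (by omega) (by omega)
  by_cases h : i < 1920
  · exact allFrom_iff.1 lab_part0_3 i (by omega) (by omega)
  by_cases h : i < 2400
  · exact allFrom_iff.1 lab_part0_4 i (by omega) (by omega)
  by_cases h : i < 2880
  · exact allFrom_iff.1 lab_part0_5 i (by omega) (by omega)
  by_cases h : i < 3360
  · exact allFrom_iff.1 lab_part0_6 i (by omega) (by omega)
  by_cases h : i < 3840
  · exact allFrom_iff.1 lab_part0_7 i (by omega) (by omega)
  by_cases h : i < 4320
  · exact allFrom_iff.1 lab_part0_8 i (by omega) (by omega)
  by_cases h : i < 4800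
  · exact allFrom_iff.1 lab_part0_9 i (by omega) (by omega)
  by_cases h : i < 5280
  · exact allFrom_iff.1 lab_part0_10 i (by omega) (by omega)
  by_cases h : i < 5760
  · exact allFrom_iff.1 lab_part0_11 i (by omega) (by omega)
  by_cases h : i < 6240
  · exact allFrom_iff.1 lab_part0_12 i (by omega) (by omega)
  by_cases h : i < 6720
  · exact allFrom_iff.1 lab_part0_13 i (by omega) (by omega)
  by_cases h : i < 7200
  · exact allFrom_iff.1 lab_part0_14 i (by omega) (by omega)
  exact allFrom_iff.1 lab_part0_15 i (by omega) (by omega)

end Cfsg.Agent.Lib.Fi24Mult27
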