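import Cfsg.Agent.Lib.Fi24Mult27.LowPoints

/-! Checks of the threefold cover, part 1. -/

set_option autoImplicit false
set_option maxRecDepth 20000
set_option Elab.async false

namespace Cfsg.Agent.Lib.Fi24Mult27

open Cfsg.Agent.Lib.CosetEnum (allBelow allFrom allFrom_iff)

theorem lab_part1_0 : allFrom 7680 480 labOk = true := by decide +kernel

theorem lab_part1_1 : allFrom 8160 480 labOk = true := by decide +kernel

theorem lab_part1_2 : allFrom 8640 480 labOk = true := by decide +kernel

theorem lab_part1_3 : allFrom 9120 480 labOk = true := by decide +kernel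

theorem lab_part1_4 : allFrom 9600 480 labOk = true := by decide +kernel

theorem lab_part1_5 : allFrom 10080 480 labOk = true := by decide +kernel

theorem lab_part1_6 : allFrom 10560 480 labOk = true := by decide +kernel

theorem lab_part1_7 : allFrom 11040 480 labOk = true := by decide +kernel

theorem lab_part1_8 : allFrom 11520 480 labOk = true := by decide +kernel

theorem lab_part1_9 : allFrom 12000 480 labOk = true := by decide +kernel

theorem lab_part1_10 : allFrom 12480 480 labOk = true := by decide +kernel

theorem lab_part1_11 : allFrom 12960 480 labOk = true := by decide +kernel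

theorem lab_part1_12 : allFrom 13440 480 labOk = true := by decide +kernel

theorem lab_part1_13 : allFrom 13920 480 labOk = true := by decide +kernel

theorem lab_part1_14 : allFrom 14400 480 labOk = true := by decide +kernel

theorem lab_part1_15 : allFrom 14880 480 labOk = true := by decide +kernel

theorem labRange1 : ∀ i, 7680 ≤ i → i < 15360 → labOk i = true := by
  intro i h1 h2
  by_cases h : i < 8160
  · exact allFrom_iff.1 lab_part1_0 i (by omega) (by omega)
  by_cases h : i < 8640
  · exact allFrom_iff.1 lab_part1_1 i (by omega) (by omega)
  by_cases h : i < 9120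
  · exact allFrom_iff.1 lab_part1_2 i (by omega) (by omega)
  by_cases h : i < 9600
  · exact allFrom_iff.1 lab_part1_3 i (by omega) (by omega)
  by_cases h : i < 10080
  · exact allFrom_iff.1 lab_part1_4 i (by omega) (by omega)
  by_cases h : i < 10560
  · exact allFrom_iff.1 lab_part1_5 i (by omega) (by omega)
  by_cases h : i < 11040
  · exact allFrom_iff.1 lab_part1_6 i (by omega) (by omega)
  by_cases h : i < 11520
  · exact allFrom_iff.1 lab_part1_7 i (by omega) (by omega)
  by_cases h : i < 12000
  · exact allFrom_iff.1 lab_part1_8 i (by omega) (by omega)
  by_cases h : i < 12480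
  · exact allFrom_iff.1 lab_part1_9 i (by omega) (by omega)
  by_cases h : i < 12960
  · exact allFrom_iff.1 lab_part1_10 i (by omega) (by omega)
  by_cases h : i < 13440
  · exact allFrom_iff.1 lab_part1_11 i (by omega) (by omega)
  by_cases h : i < 13920
  · exact allFrom_iff.1 lab_part1_12 i (by omega) (by omega)
  by_cases h : i < 14400
  · exact allFrom_iff.1 lab_part1_13 i (by omega) (by omega)
  by_cases h : i < 14880
  · exact allFrom_iff.1 lab_part1_14 i (by omega) (by omega)
  exact allFrom_iff.1 lab_part1_15 i (by omega) (by omega)

end Cfsg.Agent.Lib.Fi24Mult27
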