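import Cfsg.Agent.Lib.Fi24Mult27.LowPoints

/-! Checks of the threefold cover, part 10. -/

set_option autoImplicit false
set_option maxRecDepth 20000
set_option Elab.async false

namespace Cfsg.Agent.Lib.Fi24Mult27

open Cfsg.Agent.Lib.CosetEnum (allBelow allFrom allFrom_iff)

theorem lab_part10_0 : allFrom 76800 480 labOk = true := by decide +kernel

theorem lab_part10_1 : allFrom 77280 480 labOk = true := by decide +kernel

theorem lab_part10_2 : allFrom 77760 480 labOk = true := by decide +kernel

theorem lab_part10_3 : allFrom 78240 480 labOk = true := by decide +kernel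

theorem lab_part10_4 : allFrom 78720 480 labOk = true := by decide +kernel

theorem lab_part10_5 : allFrom 79200 480 labOk = true := by decide +kernel

theorem lab_part10_6 : allFrom 79680 480 labOk = true := by decide +kernel

theorem lab_part10_7 : allFrom 80160 480 labOk = true := by decide +kernel

theorem lab_part10_8 : allFrom 80640 480 labOk = true := by decide +kernel

theorem lab_part10_9 : allFrom 81120 480 labOk = true := by decide +kernel

theorem lab_part10_10 : allFrom 81600 480 labOk = true := by decide +kernel

theorem lab_part10_11 : allFrom 82080 480 labOk = true := by decide +kernel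

theorem lab_part10_12 : allFrom 82560 480 labOk = true := by decide +kernel

theorem lab_part10_13 : allFrom 83040 480 labOk = true := by decide +kernel

theorem lab_part10_14 : allFrom 83520 480 labOk = true := by decide +kernel

theorem lab_part10_15 : allFrom 84000 480 labOk = true := by decide +kernel

theorem labRange10 : ∀ i, 76800 ≤ i → i < 84480 → labOk i = true := by
  intro i h1 h2
  by_cases h : i < 77280
  · exact allFrom_iff.1 lab_part10_0 i (by omega) (by omega)
  by_cases h : i < 77760
  · exact allFrom_iff.1 lab_part10_1 i (by omega) (by omega)
  by_cases h : i < 78240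
  · exact allFrom_iff.1 lab_part10_2 i (by omega) (by omega)
  by_cases h : i < 78720
  · exact allFrom_iff.1 lab_part10_3 i (by omega) (by omega)
  by_cases h : i < 79200
  · exact allFrom_iff.1 lab_part10_4 i (by omega) (by omega)
  by_cases h : i < 79680
  · exact allFrom_iff.1 lab_part10_5 i (by omega) (by omega)
  by_cases h : i < 80160
  · exact allFrom_iff.1 lab_part10_6 i (by omega) (by omega)
  by_cases h : i < 80640
  · exact allFrom_iff.1 lab_part10_7 i (by omega) (by omega)
  by_cases h : i < 81120
  · exact allFrom_iff.1 lab_part10_8 i (by omega) (by omega)
  by_cases h : i < 81600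
  · exact allFrom_iff.1 lab_part10_9 i (by omega) (by omega)
  by_cases h : i < 82080
  · exact allFrom_iff.1 lab_part10_10 i (by omega) (by omega)
  by_cases h : i < 82560
  · exact allFrom_iff.1 lab_part10_11 i (by omega) (by omega)
  by_cases h : i < 83040
  · exact allFrom_iff.1 lab_part10_12 i (by omega) (by omega)
  by_cases h : i < 83520
  · exact allFrom_iff.1 lab_part10_13 i (by omega) (by omega)
  by_cases h : i < 84000
  · exact allFrom_iff.1 lab_part10_14 i (by omega) (by omega)
  exact allFrom_iff.1 lab_part10_15 i (by omega) (by omega)

end Cfsg.Agent.Lib.Fi24Mult27
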