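import Cfsg.Agent.Lib.Fi24Mult27.LowPoints

/-! Checks of the threefold cover, part 11. -/

set_option autoImplicit false
set_option maxRecDepth 20000
set_option Elab.async false

namespace Cfsg.Agent.Lib.Fi24Mult27

open Cfsg.Agent.Lib.CosetEnum (allBelow allFrom allFrom_iff)

theorem lab_part11_0 : allFrom 84480 480 labOk = true := by decide +kernel

theorem lab_part11_1 : allFrom 84960 480 labOk = true := by decide +kernel

theorem lab_part11_2 : allFrom 85440 480 labOk = true := by decide +kernel

theorem lab_part11_3 : allFrom 85920 480 labOk = true := by decide +kernel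

theorem lab_part11_4 : allFrom 86400 480 labOk = true := by decide +kernel

theorem lab_part11_5 : allFrom 86880 480 labOk = true := by decide +kernel

theorem lab_part11_6 : allFrom 87360 480 labOk = true := by decide +kernel

theorem lab_part11_7 : allFrom 87840 480 labOk = true := by decide +kernel

theorem lab_part11_8 : allFrom 88320 480 labOk = true := by decide +kernel

theorem lab_part11_9 : allFrom 88800 480 labOk = true := by decide +kernel

theorem lab_part11_10 : allFrom 89280 480 labOk = true := by decide +kernel

theorem lab_part11_11 : allFrom 89760 480 labOk = true := by decide +kernel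

theorem lab_part11_12 : allFrom 90240 480 labOk = true := by decide +kernel

theorem lab_part11_13 : allFrom 90720 480 labOk = true := by decide +kernel

theorem lab_part11_14 : allFrom 91200 480 labOk = true := by decide +kernel

theorem lab_part11_15 : allFrom 91680 480 labOk = true := by decide +kernel

theorem labRange11 : ∀ i, 84480 ≤ i → i < 92160 → labOk i = true := by
  intro i h1 h2
  by_cases h : i < 84960
  · exact allFrom_iff.1 lab_part11_0 i (by omega) (by omega)
  by_cases h : i < 85440
  · exact allFrom_iff.1 lab_part11_1 i (by omega) (by omega)
  by_cases h : i < 85920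
  · exact allFrom_iff.1 lab_part11_2 i (by omega) (by omega)
  by_cases h : i < 86400
  · exact allFrom_iff.1 lab_part11_3 i (by omega) (by omega)
  by_cases h : i < 86880
  · exact allFrom_iff.1 lab_part11_4 i (by omega) (by omega)
  by_cases h : i < 87360
  · exact allFrom_iff.1 lab_part11_5 i (by omega) (by omega)
  by_cases h : i < 87840
  · exact allFrom_iff.1 lab_part11_6 i (by omega) (by omega)
  by_cases h : i < 88320
  · exact allFrom_iff.1 lab_part11_7 i (by omega) (by omega)
  by_cases h : i < 88800
  · exact allFrom_iff.1 lab_part11_8 i (by omega) (by omega)
  by_cases h : i < 89280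
  · exact allFrom_iff.1 lab_part11_9 i (by omega) (by omega)
  by_cases h : i < 89760
  · exact allFrom_iff.1 lab_part11_10 i (by omega) (by omega)
  by_cases h : i < 90240
  · exact allFrom_iff.1 lab_part11_11 i (by omega) (by omega)
  by_cases h : i < 90720
  · exact allFrom_iff.1 lab_part11_12 i (by omega) (by omega)
  by_cases h : i < 91200
  · exact allFrom_iff.1 lab_part11_13 i (by omega) (by omega)
  by_cases h : i < 91680
  · exact allFrom_iff.1 lab_part11_14 i (by omega) (by omega)
  exact allFrom_iff.1 lab_part11_15 i (by omega) (by omega)

end Cfsg.Agent.Lib.Fi24Mult27
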