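import Cfsg.Agent.Lib.Fi24Mult27.LowPoints

/-! Checks of the threefold cover, part 12. -/

set_option autoImplicit false
set_option maxRecDepth 20000
set_option Elab.async false

namespace Cfsg.Agent.Lib.Fi24Mult27

open Cfsg.Agent.Lib.CosetEnum (allBelow allFrom allFrom_iff)

theorem lab_part12_0 : allFrom 92160 480 labOk = true := by decide +kernel

theorem lab_part12_1 : allFrom 92640 480 labOk = true := by decide +kernel

theorem lab_part12_2 : allFrom 93120 480 labOk = true := by decide +kernel

theorem lab_part12_3 : allFrom 93600 480 labOk = true := by decide +kernel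

theorem lab_part12_4 : allFrom 94080 480 labOk = true := by decide +kernel

theorem lab_part12_5 : allFrom 94560 480 labOk = true := by decide +kernel

theorem lab_part12_6 : allFrom 95040 480 labOk = true := by decide +kernel

theorem lab_part12_7 : allFrom 95520 480 labOk = true := by decide +kernel

theorem lab_part12_8 : allFrom 96000 480 labOk = true := by decide +kernel

theorem lab_part12_9 : allFrom 96480 480 labOk = true := by decide +kernel

theorem lab_part12_10 : allFrom 96960 480 labOk = true := by decide +kernel

theorem lab_part12_11 : allFrom 97440 480 labOk = true := by decide +kernel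

theorem lab_part12_12 : allFrom 97920 480 labOk = true := by decide +kernel

theorem lab_part12_13 : allFrom 98400 480 labOk = true := by decide +kernel

theorem lab_part12_14 : allFrom 98880 480 labOk = true := by decide +kernel

theorem lab_part12_15 : allFrom 99360 480 labOk = true := by decide +kernel

theorem labRange12 : ∀ i, 92160 ≤ i → i < 99840 → labOk i = true := by
  intro i h1 h2
  by_cases h : i < 92640
  · exact allFrom_iff.1 lab_part12_0 i (by omega) (by omega)
  by_cases h : i < 93120
  · exact allFrom_iff.1 lab_part12_1 i (by omega) (by omega)
  by_cases h : i < 93600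
  · exact allFrom_iff.1 lab_part12_2 i (by omega) (by omega)
  by_cases h : i < 94080
  · exact allFrom_iff.1 lab_part12_3 i (by omega) (by omega)
  by_cases h : i < 94560
  · exact allFrom_iff.1 lab_part12_4 i (by omega) (by omega)
  by_cases h : i < 95040
  · exact allFrom_iff.1 lab_part12_5 i (by omega) (by omega)
  by_cases h : i < 95520
  · exact allFrom_iff.1 lab_part12_6 i (by omega) (by omega)
  by_cases h : i < 96000
  · exact allFrom_iff.1 lab_part12_7 i (by omega) (by omega)
  by_cases h : i < 96480
  · exact allFrom_iff.1 lab_part12_8 i (by omega) (by omega)
  by_cases h : i < 96960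
  · exact allFrom_iff.1 lab_part12_9 i (by omega) (by omega)
  by_cases h : i < 97440
  · exact allFrom_iff.1 lab_part12_10 i (by omega) (by omega)
  by_cases h : i < 97920
  · exact allFrom_iff.1 lab_part12_11 i (by omega) (by omega)
  by_cases h : i < 98400
  · exact allFrom_iff.1 lab_part12_12 i (by omega) (by omega)
  by_cases h : i < 98880
  · exact allFrom_iff.1 lab_part12_13 i (by omega) (by omega)
  by_cases h : i < 99360
  · exact allFrom_iff.1 lab_part12_14 i (by omega) (by omega)
  exact allFrom_iff.1 lab_part12_15 i (by omega) (by omega)

end Cfsg.Agent.Lib.Fi24Mult27
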