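import Cfsg.Agent.Lib.Fi24Mult27.LowPoints

/-! Checks of the threefold cover, part 13. -/

set_option autoImplicit false
set_option maxRecDepth 20000
set_option Elab.async false

namespace Cfsg.Agent.Lib.Fi24Mult27

open Cfsg.Agent.Lib.CosetEnum (allBelow allFrom allFrom_iff)

theorem lab_part13_0 : allFrom 99840 480 labOk = true := by decide +kernel

theorem lab_part13_1 : allFrom 100320 480 labOk = true := by decide +kernel

theorem lab_part13_2 : allFrom 100800 480 labOk = true := by decide +kernel

theorem lab_part13_3 : allFrom 101280 480 labOk = true := by decide +kernel

theorem lab_part13_4 : allFrom 101760 480 labOk = true := by decide +kernel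

theorem lab_part13_5 : allFrom 102240 480 labOk = true := by decide +kernel

theorem lab_part13_6 : allFrom 102720 480 labOk = true := by decide +kernel

theorem lab_part13_7 : allFrom 103200 480 labOk = true := by decide +kernel

theorem lab_part13_8 : allFrom 103680 480 labOk = true := by decide +kernel

theorem lab_part13_9 : allFrom 104160 480 labOk = true := by decide +kernel

theorem lab_part13_10 : allFrom 104640 480 labOk = true := by decide +kernel

theorem lab_part13_11 : allFrom 105120 480 labOk = true := by decide +kernel

theorem lab_part13_12 : allFrom 105600 480 labOk = true := by decide +kernel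

theorem lab_part13_13 : allFrom 106080 480 labOk = true := by decide +kernel

theorem lab_part13_14 : allFrom 106560 480 labOk = true := by decide +kernel

theorem lab_part13_15 : allFrom 107040 480 labOk = true := by decide +kernel

theorem labRange13 : ∀ i, 99840 ≤ i → i < 107520 → labOk i = true := by
  intro i h1 h2
  by_cases h : i < 100320
  · exact allFrom_iff.1 lab_part13_0 i (by omega) (by omega)
  by_cases h : i < 100800
  · exact allFrom_iff.1 lab_part13_1 i (by omega) (by omega)
  by_cases h : i < 101280
  · exact allFrom_iff.1 lab_part13_2 i (by omega) (by omega)
  by_cases h : i < 101760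
  · exact allFrom_iff.1 lab_part13_3 i (by omega) (by omega)
  by_cases h : i < 102240
  · exact allFrom_iff.1 lab_part13_4 i (by omega) (by omega)
  by_cases h : i < 102720
  · exact allFrom_iff.1 lab_part13_5 i (by omega) (by omega)
  by_cases h : i < 103200
  · exact allFrom_iff.1 lab_part13_6 i (by omega) (by omega)
  by_cases h : i < 103680
  · exact allFrom_iff.1 lab_part13_7 i (by omega) (by omega)
  by_cases h : i < 104160
  · exact allFrom_iff.1 lab_part13_8 i (by omega) (by omega)
  by_cases h : i < 104640
  · exact allFrom_iff.1 lab_part13_9 i (by omega) (by omega)
  by_cases h : i < 105120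
  · exact allFrom_iff.1 lab_part13_10 i (by omega) (by omega)
  by_cases h : i < 105600
  · exact allFrom_iff.1 lab_part13_11 i (by omega) (by omega)
  by_cases h : i < 106080
  · exact allFrom_iff.1 lab_part13_12 i (by omega) (by omega)
  by_cases h : i < 106560
  · exact allFrom_iff.1 lab_part13_13 i (by omega) (by omega)
  by_cases h : i < 107040
  · exact allFrom_iff.1 lab_part13_14 i (by omega) (by omega)
  exact allFrom_iff.1 lab_part13_15 i (by omega) (by omega)

end Cfsg.Agent.Lib.Fi24Mult27
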