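import Cfsg.Agent.Lib.Fi24Mult27.LowPoints

/-! Checks of the threefold cover, part 14. -/

set_option autoImplicit false
set_option maxRecDepth 20000
set_option Elab.async false

namespace Cfsg.Agent.Lib.Fi24Mult27

open Cfsg.Agent.Lib.CosetEnum (allBelow allFrom allFrom_iff)

theorem lab_part14_0 : allFrom 107520 480 labOk = true := by decide +kernel

theorem lab_part14_1 : allFrom 108000 480 labOk = true := by decide +kernel

theorem lab_part14_2 : allFrom 108480 480 labOk = true := by decide +kernel

theorem lab_part14_3 : allFrom 108960 480 labOk = true := by decide +kernel

theorem lab_part14_4 : allFrom 109440 480 labOk = true := by decide +kernel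

theorem lab_part14_5 : allFrom 109920 480 labOk = true := by decide +kernel

theorem lab_part14_6 : allFrom 110400 480 labOk = true := by decide +kernel

theorem lab_part14_7 : allFrom 110880 480 labOk = true := by decide +kernel

theorem lab_part14_8 : allFrom 111360 480 labOk = true := by decide +kernel

theorem lab_part14_9 : allFrom 111840 480 labOk = true := by decide +kernel

theorem lab_part14_10 : allFrom 112320 480 labOk = true := by decide +kernel

theorem lab_part14_11 : allFrom 112800 480 labOk = true := by decide +kernel

theorem lab_part14_12 : allFrom 113280 480 labOk = true := by decide +kernel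

theorem lab_part14_13 : allFrom 113760 480 labOk = true := by decide +kernel

theorem lab_part14_14 : allFrom 114240 480 labOk = true := by decide +kernel

theorem lab_part14_15 : allFrom 114720 480 labOk = true := by decide +kernel

theorem labRange14 : ∀ i, 107520 ≤ i → i < 115200 → labOk i = true := by
  intro i h1 h2
  by_cases h : i < 108000
  · exact allFrom_iff.1 lab_part14_0 i (by omega) (by omega)
  by_cases h : i < 108480
  · exact allFrom_iff.1 lab_part14_1 i (by omega) (by omega)
  by_cases h : i < 108960
  · exact allFrom_iff.1 lab_part14_2 i (by omega) (by omega)
  by_cases h : i < 109440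
  · exact allFrom_iff.1 lab_part14_3 i (by omega) (by omega)
  by_cases h : i < 109920
  · exact allFrom_iff.1 lab_part14_4 i (by omega) (by omega)
  by_cases h : i < 110400
  · exact allFrom_iff.1 lab_part14_5 i (by omega) (by omega)
  by_cases h : i < 110880
  · exact allFrom_iff.1 lab_part14_6 i (by omega) (by omega)
  by_cases h : i < 111360
  · exact allFrom_iff.1 lab_part14_7 i (by omega) (by omega)
  by_cases h : i < 111840
  · exact allFrom_iff.1 lab_part14_8 i (by omega) (by omega)
  by_cases h : i < 112320
  · exact allFrom_iff.1 lab_part14_9 i (by omega) (by omega)
  by_cases h : i < 112800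
  · exact allFrom_iff.1 lab_part14_10 i (by omega) (by omega)
  by_cases h : i < 113280
  · exact allFrom_iff.1 lab_part14_11 i (by omega) (by omega)
  by_cases h : i < 113760
  · exact allFrom_iff.1 lab_part14_12 i (by omega) (by omega)
  by_cases h : i < 114240
  · exact allFrom_iff.1 lab_part14_13 i (by omega) (by omega)
  by_cases h : i < 114720
  · exact allFrom_iff.1 lab_part14_14 i (by omega) (by omega)
  exact allFrom_iff.1 lab_part14_15 i (by omega) (by omega)

end Cfsg.Agent.Lib.Fi24Mult27
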