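import Cfsg.Agent.Lib.Fi24Mult27.LowPoints

/-! Checks of the threefold cover, part 15. -/

set_option autoImplicit false
set_option maxRecDepth 20000
set_option Elab.async false

namespace Cfsg.Agent.Lib.Fi24Mult27

open Cfsg.Agent.Lib.CosetEnum (allBelow allFrom allFrom_iff)

theorem lab_part15_0 : allFrom 115200 480 labOk = true := by decide +kernel

theorem lab_part15_1 : allFrom 115680 480 labOk = true := by decide +kernel

theorem lab_part15_2 : allFrom 116160 480 labOk = true := by decide +kernel

theorem lab_part15_3 : allFrom 116640 480 labOk = true := by decide +kernel

theorem lab_part15_4 : allFrom 117120 480 labOk = true := by decide +kernel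

theorem lab_part15_5 : allFrom 117600 480 labOk = true := by decide +kernel

theorem lab_part15_6 : allFrom 118080 480 labOk = true := by decide +kernel

theorem lab_part15_7 : allFrom 118560 480 labOk = true := by decide +kernel

theorem lab_part15_8 : allFrom 119040 480 labOk = true := by decide +kernel

theorem lab_part15_9 : allFrom 119520 480 labOk = true := by decide +kernel

theorem lab_part15_10 : allFrom 120000 480 labOk = true := by decide +kernel

theorem lab_part15_11 : allFrom 120480 480 labOk = true := by decide +kernel

theorem lab_part15_12 : allFrom 120960 480 labOk = true := by decide +kernel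

theorem lab_part15_13 : allFrom 121440 480 labOk = true := by decide +kernel

theorem lab_part15_14 : allFrom 121920 480 labOk = true := by decide +kernel

theorem lab_part15_15 : allFrom 122400 480 labOk = true := by decide +kernel

theorem labRange15 : ∀ i, 115200 ≤ i → i < 122880 → labOk i = true := by
  intro i h1 h2
  by_cases h : i < 115680
  · exact allFrom_iff.1 lab_part15_0 i (by omega) (by omega)
  by_cases h : i < 116160
  · exact allFrom_iff.1 lab_part15_1 i (by omega) (by omega)
  by_cases h : i < 116640
  · exact allFrom_iff.1 lab_part15_2 i (by omega) (by omega)
  by_cases h : i < 117120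
  · exact allFrom_iff.1 lab_part15_3 i (by omega) (by omega)
  by_cases h : i < 117600
  · exact allFrom_iff.1 lab_part15_4 i (by omega) (by omega)
  by_cases h : i < 118080
  · exact allFrom_iff.1 lab_part15_5 i (by omega) (by omega)
  by_cases h : i < 118560
  · exact allFrom_iff.1 lab_part15_6 i (by omega) (by omega)
  by_cases h : i < 119040
  · exact allFrom_iff.1 lab_part15_7 i (by omega) (by omega)
  by_cases h : i < 119520
  · exact allFrom_iff.1 lab_part15_8 i (by omega) (by omega)
  by_cases h : i < 120000
  · exact allFrom_iff.1 lab_part15_9 i (by omega) (by omega)
  by_cases h : i < 120480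
  · exact allFrom_iff.1 lab_part15_10 i (by omega) (by omega)
  by_cases h : i < 120960
  · exact allFrom_iff.1 lab_part15_11 i (by omega) (by omega)
  by_cases h : i < 121440
  · exact allFrom_iff.1 lab_part15_12 i (by omega) (by omega)
  by_cases h : i < 121920
  · exact allFrom_iff.1 lab_part15_13 i (by omega) (by omega)
  by_cases h : i < 122400
  · exact allFrom_iff.1 lab_part15_14 i (by omega) (by omega)
  exact allFrom_iff.1 lab_part15_15 i (by omega) (by omega)

end Cfsg.Agent.Lib.Fi24Mult27
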