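import Cfsg.Agent.Lib.Fi24Mult27.LowPoints

/-! Checks of the threefold cover, part 16. -/

set_option autoImplicit false
set_option maxRecDepth 20000
set_option Elab.async false

namespace Cfsg.Agent.Lib.Fi24Mult27

open Cfsg.Agent.Lib.CosetEnum (allBelow allFrom allFrom_iff)

theorem lab_part16_0 : allFrom 122880 480 labOk = true := by decide +kernel

theorem lab_part16_1 : allFrom 123360 480 labOk = true := by decide +kernel

theorem lab_part16_2 : allFrom 123840 480 labOk = true := by decide +kernel

theorem lab_part16_3 : allFrom 124320 480 labOk = true := by decide +kernel

theorem lab_part16_4 : allFrom 124800 480 labOk = true := by decide +kernel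

theorem lab_part16_5 : allFrom 125280 480 labOk = true := by decide +kernel

theorem lab_part16_6 : allFrom 125760 480 labOk = true := by decide +kernel

theorem lab_part16_7 : allFrom 126240 480 labOk = true := by decide +kernel

theorem lab_part16_8 : allFrom 126720 480 labOk = true := by decide +kernel

theorem lab_part16_9 : allFrom 127200 480 labOk = true := by decide +kernel

theorem lab_part16_10 : allFrom 127680 480 labOk = true := by decide +kernel

theorem lab_part16_11 : allFrom 128160 480 labOk = true := by decide +kernel

theorem lab_part16_12 : allFrom 128640 480 labOk = true := by decide +kernel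

theorem lab_part16_13 : allFrom 129120 480 labOk = true := by decide +kernel

theorem lab_part16_14 : allFrom 129600 480 labOk = true := by decide +kernel

theorem lab_part16_15 : allFrom 130080 480 labOk = true := by decide +kernel

theorem labRange16 : ∀ i, 122880 ≤ i → i < 130560 → labOk i = true := by
  intro i h1 h2
  by_cases h : i < 123360
  · exact allFrom_iff.1 lab_part16_0 i (by omega) (by omega)
  by_cases h : i < 123840
  · exact allFrom_iff.1 lab_part16_1 i (by omega) (by omega)
  by_cases h : i < 124320
  · exact allFrom_iff.1 lab_part16_2 i (by omega) (by omega)
  by_cases h : i < 124800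
  · exact allFrom_iff.1 lab_part16_3 i (by omega) (by omega)
  by_cases h : i < 125280
  · exact allFrom_iff.1 lab_part16_4 i (by omega) (by omega)
  by_cases h : i < 125760
  · exact allFrom_iff.1 lab_part16_5 i (by omega) (by omega)
  by_cases h : i < 126240
  · exact allFrom_iff.1 lab_part16_6 i (by omega) (by omega)
  by_cases h : i < 126720
  · exact allFrom_iff.1 lab_part16_7 i (by omega) (by omega)
  by_cases h : i < 127200
  · exact allFrom_iff.1 lab_part16_8 i (by omega) (by omega)
  by_cases h : i < 127680
  · exact allFrom_iff.1 lab_part16_9 i (by omega) (by omega)
  by_cases h : i < 128160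
  · exact allFrom_iff.1 lab_part16_10 i (by omega) (by omega)
  by_cases h : i < 128640
  · exact allFrom_iff.1 lab_part16_11 i (by omega) (by omega)
  by_cases h : i < 129120
  · exact allFrom_iff.1 lab_part16_12 i (by omega) (by omega)
  by_cases h : i < 129600
  · exact allFrom_iff.1 lab_part16_13 i (by omega) (by omega)
  by_cases h : i < 130080
  · exact allFrom_iff.1 lab_part16_14 i (by omega) (by omega)
  exact allFrom_iff.1 lab_part16_15 i (by omega) (by omega)

end Cfsg.Agent.Lib.Fi24Mult27
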