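import Cfsg.Agent.Lib.Fi24Mult27.LowPoints

/-! Checks of the threefold cover, part 17. -/

set_option autoImplicit false
set_option maxRecDepth 20000
set_option Elab.async false

namespace Cfsg.Agent.Lib.Fi24Mult27

open Cfsg.Agent.Lib.CosetEnum (allBelow allFrom allFrom_iff)

theorem lab_part17_0 : allFrom 130560 480 labOk = true := by decide +kernel

theorem lab_part17_1 : allFrom 131040 480 labOk = true := by decide +kernel

theorem lab_part17_2 : allFrom 131520 480 labOk = true := by decide +kernel

theorem lab_part17_3 : allFrom 132000 480 labOk = true := by decide +kernel

theorem lab_part17_4 : allFrom 132480 480 labOk = true := by decide +kernel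

theorem lab_part17_5 : allFrom 132960 480 labOk = true := by decide +kernel

theorem lab_part17_6 : allFrom 133440 480 labOk = true := by decide +kernel

theorem lab_part17_7 : allFrom 133920 480 labOk = true := by decide +kernel

theorem lab_part17_8 : allFrom 134400 480 labOk = true := by decide +kernel

theorem lab_part17_9 : allFrom 134880 480 labOk = true := by decide +kernel

theorem lab_part17_10 : allFrom 135360 480 labOk = true := by decide +kernel

theorem lab_part17_11 : allFrom 135840 480 labOk = true := by decide +kernel

theorem lab_part17_12 : allFrom 136320 480 labOk = true := by decide +kernel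

theorem lab_part17_13 : allFrom 136800 480 labOk = true := by decide +kernel

theorem lab_part17_14 : allFrom 137280 480 labOk = true := by decide +kernel

theorem lab_part17_15 : allFrom 137760 480 labOk = true := by decide +kernel

theorem labRange17 : ∀ i, 130560 ≤ i → i < 138240 → labOk i = true := by
  intro i h1 h2
  by_cases h : i < 131040
  · exact allFrom_iff.1 lab_part17_0 i (by omega) (by omega)
  by_cases h : i < 131520
  · exact allFrom_iff.1 lab_part17_1 i (by omega) (by omega)
  by_cases h : i < 132000
  · exact allFrom_iff.1 lab_part17_2 i (by omega) (by omega)
  by_cases h : i < 132480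
  · exact allFrom_iff.1 lab_part17_3 i (by omega) (by omega)
  by_cases h : i < 132960
  · exact allFrom_iff.1 lab_part17_4 i (by omega) (by omega)
  by_cases h : i < 133440
  · exact allFrom_iff.1 lab_part17_5 i (by omega) (by omega)
  by_cases h : i < 133920
  · exact allFrom_iff.1 lab_part17_6 i (by omega) (by omega)
  by_cases h : i < 134400
  · exact allFrom_iff.1 lab_part17_7 i (by omega) (by omega)
  by_cases h : i < 134880
  · exact allFrom_iff.1 lab_part17_8 i (by omega) (by omega)
  by_cases h : i < 135360
  · exact allFrom_iff.1 lab_part17_9 i (by omega) (by omega)
  by_cases h : i < 135840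
  · exact allFrom_iff.1 lab_part17_10 i (by omega) (by omega)
  by_cases h : i < 136320
  · exact allFrom_iff.1 lab_part17_11 i (by omega) (by omega)
  by_cases h : i < 136800
  · exact allFrom_iff.1 lab_part17_12 i (by omega) (by omega)
  by_cases h : i < 137280
  · exact allFrom_iff.1 lab_part17_13 i (by omega) (by omega)
  by_cases h : i < 137760
  · exact allFrom_iff.1 lab_part17_14 i (by omega) (by omega)
  exact allFrom_iff.1 lab_part17_15 i (by omega) (by omega)

end Cfsg.Agent.Lib.Fi24Mult27
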