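import Cfsg.Agent.Lib.Fi24Mult27.LowPoints

/-! Checks of the threefold cover, part 18. -/

set_option autoImplicit false
set_option maxRecDepth 20000
set_option Elab.async false

namespace Cfsg.Agent.Lib.Fi24Mult27

open Cfsg.Agent.Lib.CosetEnum (allBelow allFrom allFrom_iff)

theorem lab_part18_0 : allFrom 138240 480 labOk = true := by decide +kernel

theorem lab_part18_1 : allFrom 138720 480 labOk = true := by decide +kernel

theorem lab_part18_2 : allFrom 139200 480 labOk = true := by decide +kernel

theorem lab_part18_3 : allFrom 139680 480 labOk = true := by decide +kernel

theorem lab_part18_4 : allFrom 140160 480 labOk = true := by decide +kernel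

theorem lab_part18_5 : allFrom 140640 480 labOk = true := by decide +kernel

theorem lab_part18_6 : allFrom 141120 480 labOk = true := by decide +kernel

theorem lab_part18_7 : allFrom 141600 480 labOk = true := by decide +kernel

theorem lab_part18_8 : allFrom 142080 480 labOk = true := by decide +kernel

theorem lab_part18_9 : allFrom 142560 480 labOk = true := by decide +kernel

theorem lab_part18_10 : allFrom 143040 480 labOk = true := by decide +kernel

theorem lab_part18_11 : allFrom 143520 480 labOk = true := by decide +kernel

theorem lab_part18_12 : allFrom 144000 480 labOk = true := by decide +kernel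

theorem lab_part18_13 : allFrom 144480 480 labOk = true := by decide +kernel

theorem lab_part18_14 : allFrom 144960 480 labOk = true := by decide +kernel

theorem lab_part18_15 : allFrom 145440 480 labOk = true := by decide +kernel

theorem labRange18 : ∀ i, 138240 ≤ i → i < 145920 → labOk i = true := by
  intro i h1 h2
  by_cases h : i < 138720
  · exact allFrom_iff.1 lab_part18_0 i (by omega) (by omega)
  by_cases h : i < 139200
  · exact allFrom_iff.1 lab_part18_1 i (by omega) (by omega)
  by_cases h : i < 139680
  · exact allFrom_iff.1 lab_part18_2 i (by omega) (by omega)
  by_cases h : i < 140160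
  · exact allFrom_iff.1 lab_part18_3 i (by omega) (by omega)
  by_cases h : i < 140640
  · exact allFrom_iff.1 lab_part18_4 i (by omega) (by omega)
  by_cases h : i < 141120
  · exact allFrom_iff.1 lab_part18_5 i (by omega) (by omega)
  by_cases h : i < 141600
  · exact allFrom_iff.1 lab_part18_6 i (by omega) (by omega)
  by_cases h : i < 142080
  · exact allFrom_iff.1 lab_part18_7 i (by omega) (by omega)
  by_cases h : i < 142560
  · exact allFrom_iff.1 lab_part18_8 i (by omega) (by omega)
  by_cases h : i < 143040
  · exact allFrom_iff.1 lab_part18_9 i (by omega) (by omega)
  by_cases h : i < 143520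
  · exact allFrom_iff.1 lab_part18_10 i (by omega) (by omega)
  by_cases h : i < 144000
  · exact allFrom_iff.1 lab_part18_11 i (by omega) (by omega)
  by_cases h : i < 144480
  · exact allFrom_iff.1 lab_part18_12 i (by omega) (by omega)
  by_cases h : i < 144960
  · exact allFrom_iff.1 lab_part18_13 i (by omega) (by omega)
  by_cases h : i < 145440
  · exact allFrom_iff.1 lab_part18_14 i (by omega) (by omega)
  exact allFrom_iff.1 lab_part18_15 i (by omega) (by omega)

end Cfsg.Agent.Lib.Fi24Mult27
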