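import Cfsg.Agent.Lib.Fi24Mult27.LowPoints

/-! Checks of the threefold cover, part 19. -/

set_option autoImplicit false
set_option maxRecDepth 20000
set_option Elab.async false

namespace Cfsg.Agent.Lib.Fi24Mult27

open Cfsg.Agent.Lib.CosetEnum (allBelow allFrom allFrom_iff)

theorem lab_part19_0 : allFrom 145920 480 labOk = true := by decide +kernel

theorem lab_part19_1 : allFrom 146400 480 labOk = true := by decide +kernel

theorem lab_part19_2 : allFrom 146880 480 labOk = true := by decide +kernel

theorem lab_part19_3 : allFrom 147360 480 labOk = true := by decide +kernel

theorem lab_part19_4 : allFrom 147840 480 labOk = true := by decide +kernel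

theorem lab_part19_5 : allFrom 148320 480 labOk = true := by decide +kernel

theorem lab_part19_6 : allFrom 148800 480 labOk = true := by decide +kernel

theorem lab_part19_7 : allFrom 149280 480 labOk = true := by decide +kernel

theorem lab_part19_8 : allFrom 149760 480 labOk = true := by decide +kernel

theorem lab_part19_9 : allFrom 150240 480 labOk = true := by decide +kernel

theorem lab_part19_10 : allFrom 150720 480 labOk = true := by decide +kernel

theorem lab_part19_11 : allFrom 151200 480 labOk = true := by decide +kernel

theorem lab_part19_12 : allFrom 151680 480 labOk = true := by decide +kernel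

theorem lab_part19_13 : allFrom 152160 480 labOk = true := by decide +kernel

theorem lab_part19_14 : allFrom 152640 480 labOk = true := by decide +kernel

theorem lab_part19_15 : allFrom 153120 480 labOk = true := by decide +kernel

theorem labRange19 : ∀ i, 145920 ≤ i → i < 153600 → labOk i = true := by
  intro i h1 h2
  by_cases h : i < 146400
  · exact allFrom_iff.1 lab_part19_0 i (by omega) (by omega)
  by_cases h : i < 146880
  · exact allFrom_iff.1 lab_part19_1 i (by omega) (by omega)
  by_cases h : i < 147360
  · exact allFrom_iff.1 lab_part19_2 i (by omega) (by omega)
  by_cases h : i < 147840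
  · exact allFrom_iff.1 lab_part19_3 i (by omega) (by omega)
  by_cases h : i < 148320
  · exact allFrom_iff.1 lab_part19_4 i (by omega) (by omega)
  by_cases h : i < 148800
  · exact allFrom_iff.1 lab_part19_5 i (by omega) (by omega)
  by_cases h : i < 149280
  · exact allFrom_iff.1 lab_part19_6 i (by omega) (by omega)
  by_cases h : i < 149760
  · exact allFrom_iff.1 lab_part19_7 i (by omega) (by omega)
  by_cases h : i < 150240
  · exact allFrom_iff.1 lab_part19_8 i (by omega) (by omega)
  by_cases h : i < 150720
  · exact allFrom_iff.1 lab_part19_9 i (by omega) (by omega)
  by_cases h : i < 151200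
  · exact allFrom_iff.1 lab_part19_10 i (by omega) (by omega)
  by_cases h : i < 151680
  · exact allFrom_iff.1 lab_part19_11 i (by omega) (by omega)
  by_cases h : i < 152160
  · exact allFrom_iff.1 lab_part19_12 i (by omega) (by omega)
  by_cases h : i < 152640
  · exact allFrom_iff.1 lab_part19_13 i (by omega) (by omega)
  by_cases h : i < 153120
  · exact allFrom_iff.1 lab_part19_14 i (by omega) (by omega)
  exact allFrom_iff.1 lab_part19_15 i (by omega) (by omega)

end Cfsg.Agent.Lib.Fi24Mult27
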