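import Cfsg.Agent.Lib.Fi24Mult27.LowPoints

/-! Checks of the threefold cover, part 2. -/

set_option autoImplicit false
set_option maxRecDepth 20000
set_option Elab.async false

namespace Cfsg.Agent.Lib.Fi24Mult27

open Cfsg.Agent.Lib.CosetEnum (allBelow allFrom allFrom_iff)

theorem lab_part2_0 : allFrom 15360 480 labOk = true := by decide +kernel

theorem lab_part2_1 : allFrom 15840 480 labOk = true := by decide +kernel

theorem lab_part2_2 : allFrom 16320 480 labOk = true := by decide +kernel

theorem lab_part2_3 : allFrom 16800 480 labOk = true := by decide +kernel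

theorem lab_part2_4 : allFrom 17280 480 labOk = true := by decide +kernel

theorem lab_part2_5 : allFrom 17760 480 labOk = true := by decide +kernel

theorem lab_part2_6 : allFrom 18240 480 labOk = true := by decide +kernel

theorem lab_part2_7 : allFrom 18720 480 labOk = true := by decide +kernel

theorem lab_part2_8 : allFrom 19200 480 labOk = true := by decide +kernel

theorem lab_part2_9 : allFrom 19680 480 labOk = true := by decide +kernel

theorem lab_part2_10 : allFrom 20160 480 labOk = true := by decide +kernel

theorem lab_part2_11 : allFrom 20640 480 labOk = true := by decide +kernel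

theorem lab_part2_12 : allFrom 21120 480 labOk = true := by decide +kernel

theorem lab_part2_13 : allFrom 21600 480 labOk = true := by decide +kernel

theorem lab_part2_14 : allFrom 22080 480 labOk = true := by decide +kernel

theorem lab_part2_15 : allFrom 22560 480 labOk = true := by decide +kernel

theorem labRange2 : ∀ i, 15360 ≤ i → i < 23040 → labOk i = true := by
  intro i h1 h2
  by_cases h : i < 15840
  · exact allFrom_iff.1 lab_part2_0 i (by omega) (by omega)
  by_cases h : i < 16320
  · exact allFrom_iff.1 lab_part2_1 i (by omega) (by omega)
  by_cases h : i < 16800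
  · exact allFrom_iff.1 lab_part2_2 i (by omega) (by omega)
  by_cases h : i < 17280
  · exact allFrom_iff.1 lab_part2_3 i (by omega) (by omega)
  by_cases h : i < 17760
  · exact allFrom_iff.1 lab_part2_4 i (by omega) (by omega)
  by_cases h : i < 18240
  · exact allFrom_iff.1 lab_part2_5 i (by omega) (by omega)
  by_cases h : i < 18720
  · exact allFrom_iff.1 lab_part2_6 i (by omega) (by omega)
  by_cases h : i < 19200
  · exact allFrom_iff.1 lab_part2_7 i (by omega) (by omega)
  by_cases h : i < 19680
  · exact allFrom_iff.1 lab_part2_8 i (by omega) (by omega)
  by_cases h : i < 20160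
  · exact allFrom_iff.1 lab_part2_9 i (by omega) (by omega)
  by_cases h : i < 20640
  · exact allFrom_iff.1 lab_part2_10 i (by omega) (by omega)
  by_cases h : i < 21120
  · exact allFrom_iff.1 lab_part2_11 i (by omega) (by omega)
  by_cases h : i < 21600
  · exact allFrom_iff.1 lab_part2_12 i (by omega) (by omega)
  by_cases h : i < 22080
  · exact allFrom_iff.1 lab_part2_13 i (by omega) (by omega)
  by_cases h : i < 22560
  · exact allFrom_iff.1 lab_part2_14 i (by omega) (by omega)
  exact allFrom_iff.1 lab_part2_15 i (by omega) (by omega)

end Cfsg.Agent.Lib.Fi24Mult27
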