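import Cfsg.Agent.Lib.Fi24Mult27.LowPoints

/-! Checks of the threefold cover, part 20. -/

set_option autoImplicit false
set_option maxRecDepth 20000
set_option Elab.async false

namespace Cfsg.Agent.Lib.Fi24Mult27

open Cfsg.Agent.Lib.CosetEnum (allBelow allFrom allFrom_iff)

theorem lab_part20_0 : allFrom 153600 480 labOk = true := by decide +kernel

theorem lab_part20_1 : allFrom 154080 480 labOk = true := by decide +kernel

theorem lab_part20_2 : allFrom 154560 480 labOk = true := by decide +kernel

theorem lab_part20_3 : allFrom 155040 480 labOk = true := by decide +kernel

theorem lab_part20_4 : allFrom 155520 480 labOk = true := by decide +kernel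

theorem lab_part20_5 : allFrom 156000 480 labOk = true := by decide +kernel

theorem lab_part20_6 : allFrom 156480 480 labOk = true := by decide +kernel

theorem lab_part20_7 : allFrom 156960 480 labOk = true := by decide +kernel

theorem lab_part20_8 : allFrom 157440 480 labOk = true := by decide +kernel

theorem lab_part20_9 : allFrom 157920 480 labOk = true := by decide +kernel

theorem lab_part20_10 : allFrom 158400 480 labOk = true := by decide +kernel

theorem lab_part20_11 : allFrom 158880 480 labOk = true := by decide +kernel

theorem lab_part20_12 : allFrom 159360 480 labOk = true := by decide +kernel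

theorem lab_part20_13 : allFrom 159840 480 labOk = true := by decide +kernel

theorem lab_part20_14 : allFrom 160320 480 labOk = true := by decide +kernel

theorem lab_part20_15 : allFrom 160800 480 labOk = true := by decide +kernel

theorem labRange20 : ∀ i, 153600 ≤ i → i < 161280 → labOk i = true := by
  intro i h1 h2
  by_cases h : i < 154080
  · exact allFrom_iff.1 lab_part20_0 i (by omega) (by omega)
  by_cases h : i < 154560
  · exact allFrom_iff.1 lab_part20_1 i (by omega) (by omega)
  by_cases h : i < 155040
  · exact allFrom_iff.1 lab_part20_2 i (by omega) (by omega)
  by_cases h : i < 155520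
  · exact allFrom_iff.1 lab_part20_3 i (by omega) (by omega)
  by_cases h : i < 156000
  · exact allFrom_iff.1 lab_part20_4 i (by omega) (by omega)
  by_cases h : i < 156480
  · exact allFrom_iff.1 lab_part20_5 i (by omega) (by omega)
  by_cases h : i < 156960
  · exact allFrom_iff.1 lab_part20_6 i (by omega) (by omega)
  by_cases h : i < 157440
  · exact allFrom_iff.1 lab_part20_7 i (by omega) (by omega)
  by_cases h : i < 157920
  · exact allFrom_iff.1 lab_part20_8 i (by omega) (by omega)
  by_cases h : i < 158400
  · exact allFrom_iff.1 lab_part20_9 i (by omega) (by omega)
  by_cases h : i < 158880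
  · exact allFrom_iff.1 lab_part20_10 i (by omega) (by omega)
  by_cases h : i < 159360
  · exact allFrom_iff.1 lab_part20_11 i (by omega) (by omega)
  by_cases h : i < 159840
  · exact allFrom_iff.1 lab_part20_12 i (by omega) (by omega)
  by_cases h : i < 160320
  · exact allFrom_iff.1 lab_part20_13 i (by omega) (by omega)
  by_cases h : i < 160800
  · exact allFrom_iff.1 lab_part20_14 i (by omega) (by omega)
  exact allFrom_iff.1 lab_part20_15 i (by omega) (by omega)

end Cfsg.Agent.Lib.Fi24Mult27
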