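import Cfsg.Agent.Lib.Fi24Mult27.LowPoints

/-! Checks of the threefold cover, part 21. -/

set_option autoImplicit false
set_option maxRecDepth 20000
set_option Elab.async false

namespace Cfsg.Agent.Lib.Fi24Mult27

open Cfsg.Agent.Lib.CosetEnum (allBelow allFrom allFrom_iff)

theorem lab_part21_0 : allFrom 161280 480 labOk = true := by decide +kernel

theorem lab_part21_1 : allFrom 161760 480 labOk = true := by decide +kernel

theorem lab_part21_2 : allFrom 162240 480 labOk = true := by decide +kernel

theorem lab_part21_3 : allFrom 162720 480 labOk = true := by decide +kernel

theorem lab_part21_4 : allFrom 163200 480 labOk = true := by decide +kernel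

theorem lab_part21_5 : allFrom 163680 480 labOk = true := by decide +kernel

theorem lab_part21_6 : allFrom 164160 480 labOk = true := by decide +kernel

theorem lab_part21_7 : allFrom 164640 480 labOk = true := by decide +kernel

theorem lab_part21_8 : allFrom 165120 480 labOk = true := by decide +kernel

theorem lab_part21_9 : allFrom 165600 480 labOk = true := by decide +kernel

theorem lab_part21_10 : allFrom 166080 480 labOk = true := by decide +kernel

theorem lab_part21_11 : allFrom 166560 480 labOk = true := by decide +kernel

theorem lab_part21_12 : allFrom 167040 480 labOk = true := by decide +kernel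

theorem lab_part21_13 : allFrom 167520 480 labOk = true := by decide +kernel

theorem lab_part21_14 : allFrom 168000 480 labOk = true := by decide +kernel

theorem lab_part21_15 : allFrom 168480 480 labOk = true := by decide +kernel

theorem labRange21 : ∀ i, 161280 ≤ i → i < 168960 → labOk i = true := by
  intro i h1 h2
  by_cases h : i < 161760
  · exact allFrom_iff.1 lab_part21_0 i (by omega) (by omega)
  by_cases h : i < 162240
  · exact allFrom_iff.1 lab_part21_1 i (by omega) (by omega)
  by_cases h : i < 162720
  · exact allFrom_iff.1 lab_part21_2 i (by omega) (by omega)
  by_cases h : i < 163200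
  · exact allFrom_iff.1 lab_part21_3 i (by omega) (by omega)
  by_cases h : i < 163680
  · exact allFrom_iff.1 lab_part21_4 i (by omega) (by omega)
  by_cases h : i < 164160
  · exact allFrom_iff.1 lab_part21_5 i (by omega) (by omega)
  by_cases h : i < 164640
  · exact allFrom_iff.1 lab_part21_6 i (by omega) (by omega)
  by_cases h : i < 165120
  · exact allFrom_iff.1 lab_part21_7 i (by omega) (by omega)
  by_cases h : i < 165600
  · exact allFrom_iff.1 lab_part21_8 i (by omega) (by omega)
  by_cases h : i < 166080
  · exact allFrom_iff.1 lab_part21_9 i (by omega) (by omega)
  by_cases h : i < 166560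
  · exact allFrom_iff.1 lab_part21_10 i (by omega) (by omega)
  by_cases h : i < 167040
  · exact allFrom_iff.1 lab_part21_11 i (by omega) (by omega)
  by_cases h : i < 167520
  · exact allFrom_iff.1 lab_part21_12 i (by omega) (by omega)
  by_cases h : i < 168000
  · exact allFrom_iff.1 lab_part21_13 i (by omega) (by omega)
  by_cases h : i < 168480
  · exact allFrom_iff.1 lab_part21_14 i (by omega) (by omega)
  exact allFrom_iff.1 lab_part21_15 i (by omega) (by omega)

end Cfsg.Agent.Lib.Fi24Mult27
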