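import Cfsg.Agent.Lib.Fi24Mult27.LowPoints

/-! Checks of the threefold cover, part 22. -/

set_option autoImplicit false
set_option maxRecDepth 20000
set_option Elab.async false

namespace Cfsg.Agent.Lib.Fi24Mult27

open Cfsg.Agent.Lib.CosetEnum (allBelow allFrom allFrom_iff)

theorem lab_part22_0 : allFrom 168960 480 labOk = true := by decide +kernel

theorem lab_part22_1 : allFrom 169440 480 labOk = true := by decide +kernel

theorem lab_part22_2 : allFrom 169920 480 labOk = true := by decide +kernel

theorem lab_part22_3 : allFrom 170400 480 labOk = true := by decide +kernel

theorem lab_part22_4 : allFrom 170880 480 labOk = true := by decide +kernel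

theorem lab_part22_5 : allFrom 171360 480 labOk = true := by decide +kernel

theorem lab_part22_6 : allFrom 171840 480 labOk = true := by decide +kernel

theorem lab_part22_7 : allFrom 172320 480 labOk = true := by decide +kernel

theorem lab_part22_8 : allFrom 172800 480 labOk = true := by decide +kernel

theorem lab_part22_9 : allFrom 173280 480 labOk = true := by decide +kernel

theorem lab_part22_10 : allFrom 173760 480 labOk = true := by decide +kernel

theorem lab_part22_11 : allFrom 174240 480 labOk = true := by decide +kernel

theorem lab_part22_12 : allFrom 174720 480 labOk = true := by decide +kernel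

theorem lab_part22_13 : allFrom 175200 480 labOk = true := by decide +kernel

theorem lab_part22_14 : allFrom 175680 480 labOk = true := by decide +kernel

theorem lab_part22_15 : allFrom 176160 480 labOk = true := by decide +kernel

theorem labRange22 : ∀ i, 168960 ≤ i → i < 176640 → labOk i = true := by
  intro i h1 h2
  by_cases h : i < 169440
  · exact allFrom_iff.1 lab_part22_0 i (by omega) (by omega)
  by_cases h : i < 169920
  · exact allFrom_iff.1 lab_part22_1 i (by omega) (by omega)
  by_cases h : i < 170400
  · exact allFrom_iff.1 lab_part22_2 i (by omega) (by omega)
  by_cases h : i < 170880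
  · exact allFrom_iff.1 lab_part22_3 i (by omega) (by omega)
  by_cases h : i < 171360
  · exact allFrom_iff.1 lab_part22_4 i (by omega) (by omega)
  by_cases h : i < 171840
  · exact allFrom_iff.1 lab_part22_5 i (by omega) (by omega)
  by_cases h : i < 172320
  · exact allFrom_iff.1 lab_part22_6 i (by omega) (by omega)
  by_cases h : i < 172800
  · exact allFrom_iff.1 lab_part22_7 i (by omega) (by omega)
  by_cases h : i < 173280
  · exact allFrom_iff.1 lab_part22_8 i (by omega) (by omega)
  by_cases h : i < 173760
  · exact allFrom_iff.1 lab_part22_9 i (by omega) (by omega)
  by_cases h : i < 174240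
  · exact allFrom_iff.1 lab_part22_10 i (by omega) (by omega)
  by_cases h : i < 174720
  · exact allFrom_iff.1 lab_part22_11 i (by omega) (by omega)
  by_cases h : i < 175200
  · exact allFrom_iff.1 lab_part22_12 i (by omega) (by omega)
  by_cases h : i < 175680
  · exact allFrom_iff.1 lab_part22_13 i (by omega) (by omega)
  by_cases h : i < 176160
  · exact allFrom_iff.1 lab_part22_14 i (by omega) (by omega)
  exact allFrom_iff.1 lab_part22_15 i (by omega) (by omega)

end Cfsg.Agent.Lib.Fi24Mult27
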