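import Cfsg.Agent.Lib.Fi24Mult27.LowPoints

/-! Checks of the threefold cover, part 23. -/

set_option autoImplicit false
set_option maxRecDepth 20000
set_option Elab.async false

namespace Cfsg.Agent.Lib.Fi24Mult27

open Cfsg.Agent.Lib.CosetEnum (allBelow allFrom allFrom_iff)

theorem lab_part23_0 : allFrom 176640 480 labOk = true := by decide +kernel

theorem lab_part23_1 : allFrom 177120 480 labOk = true := by decide +kernel

theorem lab_part23_2 : allFrom 177600 480 labOk = true := by decide +kernel

theorem lab_part23_3 : allFrom 178080 480 labOk = true := by decide +kernel

theorem lab_part23_4 : allFrom 178560 480 labOk = true := by decide +kernel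

theorem lab_part23_5 : allFrom 179040 480 labOk = true := by decide +kernel

theorem lab_part23_6 : allFrom 179520 480 labOk = true := by decide +kernel

theorem lab_part23_7 : allFrom 180000 480 labOk = true := by decide +kernel

theorem lab_part23_8 : allFrom 180480 480 labOk = true := by decide +kernel

theorem lab_part23_9 : allFrom 180960 480 labOk = true := by decide +kernel

theorem lab_part23_10 : allFrom 181440 480 labOk = true := by decide +kernel

theorem lab_part23_11 : allFrom 181920 480 labOk = true := by decide +kernel

theorem lab_part23_12 : allFrom 182400 480 labOk = true := by decide +kernel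

theorem lab_part23_13 : allFrom 182880 480 labOk = true := by decide +kernel

theorem lab_part23_14 : allFrom 183360 480 labOk = true := by decide +kernel

theorem lab_part23_15 : allFrom 183840 480 labOk = true := by decide +kernel

theorem labRange23 : ∀ i, 176640 ≤ i → i < 184320 → labOk i = true := by
  intro i h1 h2
  by_cases h : i < 177120
  · exact allFrom_iff.1 lab_part23_0 i (by omega) (by omega)
  by_cases h : i < 177600
  · exact allFrom_iff.1 lab_part23_1 i (by omega) (by omega)
  by_cases h : i < 178080
  · exact allFrom_iff.1 lab_part23_2 i (by omega) (by omega)
  by_cases h : i < 178560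
  · exact allFrom_iff.1 lab_part23_3 i (by omega) (by omega)
  by_cases h : i < 179040
  · exact allFrom_iff.1 lab_part23_4 i (by omega) (by omega)
  by_cases h : i < 179520
  · exact allFrom_iff.1 lab_part23_5 i (by omega) (by omega)
  by_cases h : i < 180000
  · exact allFrom_iff.1 lab_part23_6 i (by omega) (by omega)
  by_cases h : i < 180480
  · exact allFrom_iff.1 lab_part23_7 i (by omega) (by omega)
  by_cases h : i < 180960
  · exact allFrom_iff.1 lab_part23_8 i (by omega) (by omega)
  by_cases h : i < 181440
  · exact allFrom_iff.1 lab_part23_9 i (by omega) (by omega)
  by_cases h : i < 181920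
  · exact allFrom_iff.1 lab_part23_10 i (by omega) (by omega)
  by_cases h : i < 182400
  · exact allFrom_iff.1 lab_part23_11 i (by omega) (by omega)
  by_cases h : i < 182880
  · exact allFrom_iff.1 lab_part23_12 i (by omega) (by omega)
  by_cases h : i < 183360
  · exact allFrom_iff.1 lab_part23_13 i (by omega) (by omega)
  by_cases h : i < 183840
  · exact allFrom_iff.1 lab_part23_14 i (by omega) (by omega)
  exact allFrom_iff.1 lab_part23_15 i (by omega) (by omega)

end Cfsg.Agent.Lib.Fi24Mult27
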