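import Cfsg.Agent.Lib.Fi24Mult27.LowPoints

/-! Checks of the threefold cover, part 24. -/

set_option autoImplicit false
set_option maxRecDepth 20000
set_option Elab.async false

namespace Cfsg.Agent.Lib.Fi24Mult27

open Cfsg.Agent.Lib.CosetEnum (allBelow allFrom allFrom_iff)

theorem lab_part24_0 : allFrom 184320 480 labOk = true := by decide +kernel

theorem lab_part24_1 : allFrom 184800 480 labOk = true := by decide +kernel

theorem lab_part24_2 : allFrom 185280 480 labOk = true := by decide +kernel

theorem lab_part24_3 : allFrom 185760 480 labOk = true := by decide +kernel

theorem lab_part24_4 : allFrom 186240 480 labOk = true := by decide +kernel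

theorem lab_part24_5 : allFrom 186720 480 labOk = true := by decide +kernel

theorem lab_part24_6 : allFrom 187200 480 labOk = true := by decide +kernel

theorem lab_part24_7 : allFrom 187680 480 labOk = true := by decide +kernel

theorem lab_part24_8 : allFrom 188160 480 labOk = true := by decide +kernel

theorem lab_part24_9 : allFrom 188640 480 labOk = true := by decide +kernel

theorem lab_part24_10 : allFrom 189120 480 labOk = true := by decide +kernel

theorem lab_part24_11 : allFrom 189600 480 labOk = true := by decide +kernel

theorem lab_part24_12 : allFrom 190080 480 labOk = true := by decide +kernel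

theorem lab_part24_13 : allFrom 190560 480 labOk = true := by decide +kernel

theorem lab_part24_14 : allFrom 191040 480 labOk = true := by decide +kernel

theorem lab_part24_15 : allFrom 191520 480 labOk = true := by decide +kernel

theorem labRange24 : ∀ i, 184320 ≤ i → i < 192000 → labOk i = true := by
  intro i h1 h2
  by_cases h : i < 184800
  · exact allFrom_iff.1 lab_part24_0 i (by omega) (by omega)
  by_cases h : i < 185280
  · exact allFrom_iff.1 lab_part24_1 i (by omega) (by omega)
  by_cases h : i < 185760
  · exact allFrom_iff.1 lab_part24_2 i (by omega) (by omega)
  by_cases h : i < 186240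
  · exact allFrom_iff.1 lab_part24_3 i (by omega) (by omega)
  by_cases h : i < 186720
  · exact allFrom_iff.1 lab_part24_4 i (by omega) (by omega)
  by_cases h : i < 187200
  · exact allFrom_iff.1 lab_part24_5 i (by omega) (by omega)
  by_cases h : i < 187680
  · exact allFrom_iff.1 lab_part24_6 i (by omega) (by omega)
  by_cases h : i < 188160
  · exact allFrom_iff.1 lab_part24_7 i (by omega) (by omega)
  by_cases h : i < 188640
  · exact allFrom_iff.1 lab_part24_8 i (by omega) (by omega)
  by_cases h : i < 189120
  · exact allFrom_iff.1 lab_part24_9 i (by omega) (by omega)
  by_cases h : i < 189600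
  · exact allFrom_iff.1 lab_part24_10 i (by omega) (by omega)
  by_cases h : i < 190080
  · exact allFrom_iff.1 lab_part24_11 i (by omega) (by omega)
  by_cases h : i < 190560
  · exact allFrom_iff.1 lab_part24_12 i (by omega) (by omega)
  by_cases h : i < 191040
  · exact allFrom_iff.1 lab_part24_13 i (by omega) (by omega)
  by_cases h : i < 191520
  · exact allFrom_iff.1 lab_part24_14 i (by omega) (by omega)
  exact allFrom_iff.1 lab_part24_15 i (by omega) (by omega)

end Cfsg.Agent.Lib.Fi24Mult27
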