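import Cfsg.Agent.Lib.Fi24Mult27.LowPoints

/-! Checks of the threefold cover, part 25. -/

set_option autoImplicit false
set_option maxRecDepth 20000
set_option Elab.async false

namespace Cfsg.Agent.Lib.Fi24Mult27

open Cfsg.Agent.Lib.CosetEnum (allBelow allFrom allFrom_iff)

theorem lab_part25_0 : allFrom 192000 480 labOk = true := by decide +kernel

theorem lab_part25_1 : allFrom 192480 480 labOk = true := by decide +kernel

theorem lab_part25_2 : allFrom 192960 480 labOk = true := by decide +kernel

theorem lab_part25_3 : allFrom 193440 480 labOk = true := by decide +kernel

theorem lab_part25_4 : allFrom 193920 480 labOk = true := by decide +kernel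

theorem lab_part25_5 : allFrom 194400 480 labOk = true := by decide +kernel

theorem lab_part25_6 : allFrom 194880 480 labOk = true := by decide +kernel

theorem lab_part25_7 : allFrom 195360 480 labOk = true := by decide +kernel

theorem lab_part25_8 : allFrom 195840 480 labOk = true := by decide +kernel

theorem lab_part25_9 : allFrom 196320 480 labOk = true := by decide +kernel

theorem lab_part25_10 : allFrom 196800 480 labOk = true := by decide +kernel

theorem lab_part25_11 : allFrom 197280 480 labOk = true := by decide +kernel

theorem lab_part25_12 : allFrom 197760 480 labOk = true := by decide +kernel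

theorem lab_part25_13 : allFrom 198240 480 labOk = true := by decide +kernel

theorem lab_part25_14 : allFrom 198720 480 labOk = true := by decide +kernel

theorem lab_part25_15 : allFrom 199200 480 labOk = true := by decide +kernel

theorem labRange25 : ∀ i, 192000 ≤ i → i < 199680 → labOk i = true := by
  intro i h1 h2
  by_cases h : i < 192480
  · exact allFrom_iff.1 lab_part25_0 i (by omega) (by omega)
  by_cases h : i < 192960
  · exact allFrom_iff.1 lab_part25_1 i (by omega) (by omega)
  by_cases h : i < 193440
  · exact allFrom_iff.1 lab_part25_2 i (by omega) (by omega)
  by_cases h : i < 193920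
  · exact allFrom_iff.1 lab_part25_3 i (by omega) (by omega)
  by_cases h : i < 194400
  · exact allFrom_iff.1 lab_part25_4 i (by omega) (by omega)
  by_cases h : i < 194880
  · exact allFrom_iff.1 lab_part25_5 i (by omega) (by omega)
  by_cases h : i < 195360
  · exact allFrom_iff.1 lab_part25_6 i (by omega) (by omega)
  by_cases h : i < 195840
  · exact allFrom_iff.1 lab_part25_7 i (by omega) (by omega)
  by_cases h : i < 196320
  · exact allFrom_iff.1 lab_part25_8 i (by omega) (by omega)
  by_cases h : i < 196800
  · exact allFrom_iff.1 lab_part25_9 i (by omega) (by omega)
  by_cases h : i < 197280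
  · exact allFrom_iff.1 lab_part25_10 i (by omega) (by omega)
  by_cases h : i < 197760
  · exact allFrom_iff.1 lab_part25_11 i (by omega) (by omega)
  by_cases h : i < 198240
  · exact allFrom_iff.1 lab_part25_12 i (by omega) (by omega)
  by_cases h : i < 198720
  · exact allFrom_iff.1 lab_part25_13 i (by omega) (by omega)
  by_cases h : i < 199200
  · exact allFrom_iff.1 lab_part25_14 i (by omega) (by omega)
  exact allFrom_iff.1 lab_part25_15 i (by omega) (by omega)

end Cfsg.Agent.Lib.Fi24Mult27
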