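import Cfsg.Agent.Lib.Fi24Mult27.LowPoints

/-! Checks of the threefold cover, part 26. -/

set_option autoImplicit false
set_option maxRecDepth 20000
set_option Elab.async false

namespace Cfsg.Agent.Lib.Fi24Mult27

open Cfsg.Agent.Lib.CosetEnum (allBelow allFrom allFrom_iff)

theorem lab_part26_0 : allFrom 199680 480 labOk = true := by decide +kernel

theorem lab_part26_1 : allFrom 200160 480 labOk = true := by decide +kernel

theorem lab_part26_2 : allFrom 200640 480 labOk = true := by decide +kernel

theorem lab_part26_3 : allFrom 201120 480 labOk = true := by decide +kernel

theorem lab_part26_4 : allFrom 201600 480 labOk = true := by decide +kernel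

theorem lab_part26_5 : allFrom 202080 480 labOk = true := by decide +kernel

theorem lab_part26_6 : allFrom 202560 480 labOk = true := by decide +kernel

theorem lab_part26_7 : allFrom 203040 480 labOk = true := by decide +kernel

theorem lab_part26_8 : allFrom 203520 480 labOk = true := by decide +kernel

theorem lab_part26_9 : allFrom 204000 480 labOk = true := by decide +kernel

theorem lab_part26_10 : allFrom 204480 480 labOk = true := by decide +kernel

theorem lab_part26_11 : allFrom 204960 480 labOk = true := by decide +kernel

theorem lab_part26_12 : allFrom 205440 480 labOk = true := by decide +kernel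

theorem lab_part26_13 : allFrom 205920 480 labOk = true := by decide +kernel

theorem lab_part26_14 : allFrom 206400 480 labOk = true := by decide +kernel

theorem lab_part26_15 : allFrom 206880 480 labOk = true := by decide +kernel

theorem labRange26 : ∀ i, 199680 ≤ i → i < 207360 → labOk i = true := by
  intro i h1 h2
  by_cases h : i < 200160
  · exact allFrom_iff.1 lab_part26_0 i (by omega) (by omega)
  by_cases h : i < 200640
  · exact allFrom_iff.1 lab_part26_1 i (by omega) (by omega)
  by_cases h : i < 201120
  · exact allFrom_iff.1 lab_part26_2 i (by omega) (by omega)
  by_cases h : i < 201600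
  · exact allFrom_iff.1 lab_part26_3 i (by omega) (by omega)
  by_cases h : i < 202080
  · exact allFrom_iff.1 lab_part26_4 i (by omega) (by omega)
  by_cases h : i < 202560
  · exact allFrom_iff.1 lab_part26_5 i (by omega) (by omega)
  by_cases h : i < 203040
  · exact allFrom_iff.1 lab_part26_6 i (by omega) (by omega)
  by_cases h : i < 203520
  · exact allFrom_iff.1 lab_part26_7 i (by omega) (by omega)
  by_cases h : i < 204000
  · exact allFrom_iff.1 lab_part26_8 i (by omega) (by omega)
  by_cases h : i < 204480
  · exact allFrom_iff.1 lab_part26_9 i (by omega) (by omega)
  by_cases h : i < 204960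
  · exact allFrom_iff.1 lab_part26_10 i (by omega) (by omega)
  by_cases h : i < 205440
  · exact allFrom_iff.1 lab_part26_11 i (by omega) (by omega)
  by_cases h : i < 205920
  · exact allFrom_iff.1 lab_part26_12 i (by omega) (by omega)
  by_cases h : i < 206400
  · exact allFrom_iff.1 lab_part26_13 i (by omega) (by omega)
  by_cases h : i < 206880
  · exact allFrom_iff.1 lab_part26_14 i (by omega) (by omega)
  exact allFrom_iff.1 lab_part26_15 i (by omega) (by omega)

end Cfsg.Agent.Lib.Fi24Mult27
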