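import Cfsg.Agent.Lib.Fi24Mult27.LowPoints

/-! Checks of the threefold cover, part 27. -/

set_option autoImplicit false
set_option maxRecDepth 20000
set_option Elab.async false

namespace Cfsg.Agent.Lib.Fi24Mult27

open Cfsg.Agent.Lib.CosetEnum (allBelow allFrom allFrom_iff)

theorem lab_part27_0 : allFrom 207360 480 labOk = true := by decide +kernel

theorem lab_part27_1 : allFrom 207840 480 labOk = true := by decide +kernel

theorem lab_part27_2 : allFrom 208320 480 labOk = true := by decide +kernel

theorem lab_part27_3 : allFrom 208800 480 labOk = true := by decide +kernel

theorem lab_part27_4 : allFrom 209280 480 labOk = true := by decide +kernel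

theorem lab_part27_5 : allFrom 209760 480 labOk = true := by decide +kernel

theorem lab_part27_6 : allFrom 210240 480 labOk = true := by decide +kernel

theorem lab_part27_7 : allFrom 210720 480 labOk = true := by decide +kernel

theorem lab_part27_8 : allFrom 211200 480 labOk = true := by decide +kernel

theorem lab_part27_9 : allFrom 211680 480 labOk = true := by decide +kernel

theorem lab_part27_10 : allFrom 212160 480 labOk = true := by decide +kernel

theorem lab_part27_11 : allFrom 212640 480 labOk = true := by decide +kernel

theorem lab_part27_12 : allFrom 213120 480 labOk = true := by decide +kernel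

theorem lab_part27_13 : allFrom 213600 480 labOk = true := by decide +kernel

theorem lab_part27_14 : allFrom 214080 480 labOk = true := by decide +kernel

theorem lab_part27_15 : allFrom 214560 480 labOk = true := by decide +kernel

theorem labRange27 : ∀ i, 207360 ≤ i → i < 215040 → labOk i = true := by
  intro i h1 h2
  by_cases h : i < 207840
  · exact allFrom_iff.1 lab_part27_0 i (by omega) (by omega)
  by_cases h : i < 208320
  · exact allFrom_iff.1 lab_part27_1 i (by omega) (by omega)
  by_cases h : i < 208800
  · exact allFrom_iff.1 lab_part27_2 i (by omega) (by omega)
  by_cases h : i < 209280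
  · exact allFrom_iff.1 lab_part27_3 i (by omega) (by omega)
  by_cases h : i < 209760
  · exact allFrom_iff.1 lab_part27_4 i (by omega) (by omega)
  by_cases h : i < 210240
  · exact allFrom_iff.1 lab_part27_5 i (by omega) (by omega)
  by_cases h : i < 210720
  · exact allFrom_iff.1 lab_part27_6 i (by omega) (by omega)
  by_cases h : i < 211200
  · exact allFrom_iff.1 lab_part27_7 i (by omega) (by omega)
  by_cases h : i < 211680
  · exact allFrom_iff.1 lab_part27_8 i (by omega) (by omega)
  by_cases h : i < 212160
  · exact allFrom_iff.1 lab_part27_9 i (by omega) (by omega)
  by_cases h : i < 212640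
  · exact allFrom_iff.1 lab_part27_10 i (by omega) (by omega)
  by_cases h : i < 213120
  · exact allFrom_iff.1 lab_part27_11 i (by omega) (by omega)
  by_cases h : i < 213600
  · exact allFrom_iff.1 lab_part27_12 i (by omega) (by omega)
  by_cases h : i < 214080
  · exact allFrom_iff.1 lab_part27_13 i (by omega) (by omega)
  by_cases h : i < 214560
  · exact allFrom_iff.1 lab_part27_14 i (by omega) (by omega)
  exact allFrom_iff.1 lab_part27_15 i (by omega) (by omega)

end Cfsg.Agent.Lib.Fi24Mult27
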