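import Cfsg.Agent.Lib.Fi24Mult27.LowPoints

/-! Checks of the threefold cover, part 28. -/

set_option autoImplicit false
set_option maxRecDepth 20000
set_option Elab.async false

namespace Cfsg.Agent.Lib.Fi24Mult27

open Cfsg.Agent.Lib.CosetEnum (allBelow allFrom allFrom_iff)

theorem lab_part28_0 : allFrom 215040 480 labOk = true := by decide +kernel

theorem lab_part28_1 : allFrom 215520 480 labOk = true := by decide +kernel

theorem lab_part28_2 : allFrom 216000 480 labOk = true := by decide +kernel

theorem lab_part28_3 : allFrom 216480 480 labOk = true := by decide +kernel

theorem lab_part28_4 : allFrom 216960 480 labOk = true := by decide +kernel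

theorem lab_part28_5 : allFrom 217440 480 labOk = true := by decide +kernel

theorem lab_part28_6 : allFrom 217920 480 labOk = true := by decide +kernel

theorem lab_part28_7 : allFrom 218400 480 labOk = true := by decide +kernel

theorem lab_part28_8 : allFrom 218880 480 labOk = true := by decide +kernel

theorem lab_part28_9 : allFrom 219360 480 labOk = true := by decide +kernel

theorem lab_part28_10 : allFrom 219840 480 labOk = true := by decide +kernel

theorem lab_part28_11 : allFrom 220320 480 labOk = true := by decide +kernel

theorem lab_part28_12 : allFrom 220800 480 labOk = true := by decide +kernel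

theorem lab_part28_13 : allFrom 221280 480 labOk = true := by decide +kernel

theorem lab_part28_14 : allFrom 221760 480 labOk = true := by decide +kernel

theorem lab_part28_15 : allFrom 222240 480 labOk = true := by decide +kernel

theorem labRange28 : ∀ i, 215040 ≤ i → i < 222720 → labOk i = true := by
  intro i h1 h2
  by_cases h : i < 215520
  · exact allFrom_iff.1 lab_part28_0 i (by omega) (by omega)
  by_cases h : i < 216000
  · exact allFrom_iff.1 lab_part28_1 i (by omega) (by omega)
  by_cases h : i < 216480
  · exact allFrom_iff.1 lab_part28_2 i (by omega) (by omega)
  by_cases h : i < 216960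
  · exact allFrom_iff.1 lab_part28_3 i (by omega) (by omega)
  by_cases h : i < 217440
  · exact allFrom_iff.1 lab_part28_4 i (by omega) (by omega)
  by_cases h : i < 217920
  · exact allFrom_iff.1 lab_part28_5 i (by omega) (by omega)
  by_cases h : i < 218400
  · exact allFrom_iff.1 lab_part28_6 i (by omega) (by omega)
  by_cases h : i < 218880
  · exact allFrom_iff.1 lab_part28_7 i (by omega) (by omega)
  by_cases h : i < 219360
  · exact allFrom_iff.1 lab_part28_8 i (by omega) (by omega)
  by_cases h : i < 219840
  · exact allFrom_iff.1 lab_part28_9 i (by omega) (by omega)
  by_cases h : i < 220320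
  · exact allFrom_iff.1 lab_part28_10 i (by omega) (by omega)
  by_cases h : i < 220800
  · exact allFrom_iff.1 lab_part28_11 i (by omega) (by omega)
  by_cases h : i < 221280
  · exact allFrom_iff.1 lab_part28_12 i (by omega) (by omega)
  by_cases h : i < 221760
  · exact allFrom_iff.1 lab_part28_13 i (by omega) (by omega)
  by_cases h : i < 222240
  · exact allFrom_iff.1 lab_part28_14 i (by omega) (by omega)
  exact allFrom_iff.1 lab_part28_15 i (by omega) (by omega)

end Cfsg.Agent.Lib.Fi24Mult27
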