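import Cfsg.Agent.Lib.Fi24Mult27.LowPoints

/-! Checks of the threefold cover, part 29. -/

set_option autoImplicit false
set_option maxRecDepth 20000
set_option Elab.async false

namespace Cfsg.Agent.Lib.Fi24Mult27

open Cfsg.Agent.Lib.CosetEnum (allBelow allFrom allFrom_iff)

theorem lab_part29_0 : allFrom 222720 480 labOk = true := by decide +kernel

theorem lab_part29_1 : allFrom 223200 480 labOk = true := by decide +kernel

theorem lab_part29_2 : allFrom 223680 480 labOk = true := by decide +kernel

theorem lab_part29_3 : allFrom 224160 480 labOk = true := by decide +kernel

theorem lab_part29_4 : allFrom 224640 480 labOk = true := by decide +kernel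

theorem lab_part29_5 : allFrom 225120 480 labOk = true := by decide +kernel

theorem lab_part29_6 : allFrom 225600 480 labOk = true := by decide +kernel

theorem lab_part29_7 : allFrom 226080 480 labOk = true := by decide +kernel

theorem lab_part29_8 : allFrom 226560 480 labOk = true := by decide +kernel

theorem lab_part29_9 : allFrom 227040 480 labOk = true := by decide +kernel

theorem lab_part29_10 : allFrom 227520 480 labOk = true := by decide +kernel

theorem lab_part29_11 : allFrom 228000 480 labOk = true := by decide +kernel

theorem lab_part29_12 : allFrom 228480 480 labOk = true := by decide +kernel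

theorem lab_part29_13 : allFrom 228960 480 labOk = true := by decide +kernel

theorem lab_part29_14 : allFrom 229440 480 labOk = true := by decide +kernel

theorem lab_part29_15 : allFrom 229920 480 labOk = true := by decide +kernel

theorem labRange29 : ∀ i, 222720 ≤ i → i < 230400 → labOk i = true := by
  intro i h1 h2
  by_cases h : i < 223200
  · exact allFrom_iff.1 lab_part29_0 i (by omega) (by omega)
  by_cases h : i < 223680
  · exact allFrom_iff.1 lab_part29_1 i (by omega) (by omega)
  by_cases h : i < 224160
  · exact allFrom_iff.1 lab_part29_2 i (by omega) (by omega)
  by_cases h : i < 224640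
  · exact allFrom_iff.1 lab_part29_3 i (by omega) (by omega)
  by_cases h : i < 225120
  · exact allFrom_iff.1 lab_part29_4 i (by omega) (by omega)
  by_cases h : i < 225600
  · exact allFrom_iff.1 lab_part29_5 i (by omega) (by omega)
  by_cases h : i < 226080
  · exact allFrom_iff.1 lab_part29_6 i (by omega) (by omega)
  by_cases h : i < 226560
  · exact allFrom_iff.1 lab_part29_7 i (by omega) (by omega)
  by_cases h : i < 227040
  · exact allFrom_iff.1 lab_part29_8 i (by omega) (by omega)
  by_cases h : i < 227520
  · exact allFrom_iff.1 lab_part29_9 i (by omega) (by omega)
  by_cases h : i < 228000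
  · exact allFrom_iff.1 lab_part29_10 i (by omega) (by omega)
  by_cases h : i < 228480
  · exact allFrom_iff.1 lab_part29_11 i (by omega) (by omega)
  by_cases h : i < 228960
  · exact allFrom_iff.1 lab_part29_12 i (by omega) (by omega)
  by_cases h : i < 229440
  · exact allFrom_iff.1 lab_part29_13 i (by omega) (by omega)
  by_cases h : i < 229920
  · exact allFrom_iff.1 lab_part29_14 i (by omega) (by omega)
  exact allFrom_iff.1 lab_part29_15 i (by omega) (by omega)

end Cfsg.Agent.Lib.Fi24Mult27
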