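import Cfsg.Agent.Lib.Fi24Mult27.LowPoints

/-! Checks of the threefold cover, part 3. -/

set_option autoImplicit false
set_option maxRecDepth 20000
set_option Elab.async false

namespace Cfsg.Agent.Lib.Fi24Mult27

open Cfsg.Agent.Lib.CosetEnum (allBelow allFrom allFrom_iff)

theorem lab_part3_0 : allFrom 23040 480 labOk = true := by decide +kernel

theorem lab_part3_1 : allFrom 23520 480 labOk = true := by decide +kernel

theorem lab_part3_2 : allFrom 24000 480 labOk = true := by decide +kernel

theorem lab_part3_3 : allFrom 24480 480 labOk = true := by decide +kernel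

theorem lab_part3_4 : allFrom 24960 480 labOk = true := by decide +kernel

theorem lab_part3_5 : allFrom 25440 480 labOk = true := by decide +kernel

theorem lab_part3_6 : allFrom 25920 480 labOk = true := by decide +kernel

theorem lab_part3_7 : allFrom 26400 480 labOk = true := by decide +kernel

theorem lab_part3_8 : allFrom 26880 480 labOk = true := by decide +kernel

theorem lab_part3_9 : allFrom 27360 480 labOk = true := by decide +kernel

theorem lab_part3_10 : allFrom 27840 480 labOk = true := by decide +kernel

theorem lab_part3_11 : allFrom 28320 480 labOk = true := by decide +kernel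

theorem lab_part3_12 : allFrom 28800 480 labOk = true := by decide +kernel

theorem lab_part3_13 : allFrom 29280 480 labOk = true := by decide +kernel

theorem lab_part3_14 : allFrom 29760 480 labOk = true := by decide +kernel

theorem lab_part3_15 : allFrom 30240 480 labOk = true := by decide +kernel

theorem labRange3 : ∀ i, 23040 ≤ i → i < 30720 → labOk i = true := by
  intro i h1 h2
  by_cases h : i < 23520
  · exact allFrom_iff.1 lab_part3_0 i (by omega) (by omega)
  by_cases h : i < 24000
  · exact allFrom_iff.1 lab_part3_1 i (by omega) (by omega)
  by_cases h : i < 24480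
  · exact allFrom_iff.1 lab_part3_2 i (by omega) (by omega)
  by_cases h : i < 24960
  · exact allFrom_iff.1 lab_part3_3 i (by omega) (by omega)
  by_cases h : i < 25440
  · exact allFrom_iff.1 lab_part3_4 i (by omega) (by omega)
  by_cases h : i < 25920
  · exact allFrom_iff.1 lab_part3_5 i (by omega) (by omega)
  by_cases h : i < 26400
  · exact allFrom_iff.1 lab_part3_6 i (by omega) (by omega)
  by_cases h : i < 26880
  · exact allFrom_iff.1 lab_part3_7 i (by omega) (by omega)
  by_cases h : i < 27360
  · exact allFrom_iff.1 lab_part3_8 i (by omega) (by omega)
  by_cases h : i < 27840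
  · exact allFrom_iff.1 lab_part3_9 i (by omega) (by omega)
  by_cases h : i < 28320
  · exact allFrom_iff.1 lab_part3_10 i (by omega) (by omega)
  by_cases h : i < 28800
  · exact allFrom_iff.1 lab_part3_11 i (by omega) (by omega)
  by_cases h : i < 29280
  · exact allFrom_iff.1 lab_part3_12 i (by omega) (by omega)
  by_cases h : i < 29760
  · exact allFrom_iff.1 lab_part3_13 i (by omega) (by omega)
  by_cases h : i < 30240
  · exact allFrom_iff.1 lab_part3_14 i (by omega) (by omega)
  exact allFrom_iff.1 lab_part3_15 i (by omega) (by omega)

end Cfsg.Agent.Lib.Fi24Mult27
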