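import Cfsg.Agent.Lib.Fi24Mult27.LowPoints

/-! Checks of the threefold cover, part 30. -/

set_option autoImplicit false
set_option maxRecDepth 20000
set_option Elab.async false

namespace Cfsg.Agent.Lib.Fi24Mult27

open Cfsg.Agent.Lib.CosetEnum (allBelow allFrom allFrom_iff)

theorem lab_part30_0 : allFrom 230400 480 labOk = true := by decide +kernel

theorem lab_part30_1 : allFrom 230880 480 labOk = true := by decide +kernel

theorem lab_part30_2 : allFrom 231360 480 labOk = true := by decide +kernel

theorem lab_part30_3 : allFrom 231840 480 labOk = true := by decide +kernel

theorem lab_part30_4 : allFrom 232320 480 labOk = true := by decide +kernel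

theorem lab_part30_5 : allFrom 232800 480 labOk = true := by decide +kernel

theorem lab_part30_6 : allFrom 233280 480 labOk = true := by decide +kernel

theorem lab_part30_7 : allFrom 233760 480 labOk = true := by decide +kernel

theorem lab_part30_8 : allFrom 234240 480 labOk = true := by decide +kernel

theorem lab_part30_9 : allFrom 234720 480 labOk = true := by decide +kernel

theorem lab_part30_10 : allFrom 235200 480 labOk = true := by decide +kernel

theorem lab_part30_11 : allFrom 235680 480 labOk = true := by decide +kernel

theorem lab_part30_12 : allFrom 236160 480 labOk = true := by decide +kernel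

theorem lab_part30_13 : allFrom 236640 480 labOk = true := by decide +kernel

theorem lab_part30_14 : allFrom 237120 480 labOk = true := by decide +kernel

theorem lab_part30_15 : allFrom 237600 480 labOk = true := by decide +kernel

theorem labRange30 : ∀ i, 230400 ≤ i → i < 238080 → labOk i = true := by
  intro i h1 h2
  by_cases h : i < 230880
  · exact allFrom_iff.1 lab_part30_0 i (by omega) (by omega)
  by_cases h : i < 231360
  · exact allFrom_iff.1 lab_part30_1 i (by omega) (by omega)
  by_cases h : i < 231840
  · exact allFrom_iff.1 lab_part30_2 i (by omega) (by omega)
  by_cases h : i < 232320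
  · exact allFrom_iff.1 lab_part30_3 i (by omega) (by omega)
  by_cases h : i < 232800
  · exact allFrom_iff.1 lab_part30_4 i (by omega) (by omega)
  by_cases h : i < 233280
  · exact allFrom_iff.1 lab_part30_5 i (by omega) (by omega)
  by_cases h : i < 233760
  · exact allFrom_iff.1 lab_part30_6 i (by omega) (by omega)
  by_cases h : i < 234240
  · exact allFrom_iff.1 lab_part30_7 i (by omega) (by omega)
  by_cases h : i < 234720
  · exact allFrom_iff.1 lab_part30_8 i (by omega) (by omega)
  by_cases h : i < 235200
  · exact allFrom_iff.1 lab_part30_9 i (by omega) (by omega)
  by_cases h : i < 235680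
  · exact allFrom_iff.1 lab_part30_10 i (by omega) (by omega)
  by_cases h : i < 236160
  · exact allFrom_iff.1 lab_part30_11 i (by omega) (by omega)
  by_cases h : i < 236640
  · exact allFrom_iff.1 lab_part30_12 i (by omega) (by omega)
  by_cases h : i < 237120
  · exact allFrom_iff.1 lab_part30_13 i (by omega) (by omega)
  by_cases h : i < 237600
  · exact allFrom_iff.1 lab_part30_14 i (by omega) (by omega)
  exact allFrom_iff.1 lab_part30_15 i (by omega) (by omega)

end Cfsg.Agent.Lib.Fi24Mult27
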