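import Cfsg.Agent.Lib.Fi24Mult27.LowPoints

/-! Checks of the threefold cover, part 31. -/

set_option autoImplicit false
set_option maxRecDepth 20000
set_option Elab.async false

namespace Cfsg.Agent.Lib.Fi24Mult27

open Cfsg.Agent.Lib.CosetEnum (allBelow allFrom allFrom_iff)

theorem lab_part31_0 : allFrom 238080 480 labOk = true := by decide +kernel

theorem lab_part31_1 : allFrom 238560 480 labOk = true := by decide +kernel

theorem lab_part31_2 : allFrom 239040 480 labOk = true := by decide +kernel

theorem lab_part31_3 : allFrom 239520 480 labOk = true := by decide +kernel

theorem lab_part31_4 : allFrom 240000 480 labOk = true := by decide +kernel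

theorem lab_part31_5 : allFrom 240480 480 labOk = true := by decide +kernel

theorem lab_part31_6 : allFrom 240960 480 labOk = true := by decide +kernel

theorem lab_part31_7 : allFrom 241440 480 labOk = true := by decide +kernel

theorem lab_part31_8 : allFrom 241920 480 labOk = true := by decide +kernel

theorem lab_part31_9 : allFrom 242400 480 labOk = true := by decide +kernel

theorem lab_part31_10 : allFrom 242880 480 labOk = true := by decide +kernel

theorem lab_part31_11 : allFrom 243360 480 labOk = true := by decide +kernel

theorem lab_part31_12 : allFrom 243840 480 labOk = true := by decide +kernel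

theorem lab_part31_13 : allFrom 244320 480 labOk = true := by decide +kernel

theorem lab_part31_14 : allFrom 244800 480 labOk = true := by decide +kernel

theorem lab_part31_15 : allFrom 245280 480 labOk = true := by decide +kernel

theorem labRange31 : ∀ i, 238080 ≤ i → i < 245760 → labOk i = true := by
  intro i h1 h2
  by_cases h : i < 238560
  · exact allFrom_iff.1 lab_part31_0 i (by omega) (by omega)
  by_cases h : i < 239040
  · exact allFrom_iff.1 lab_part31_1 i (by omega) (by omega)
  by_cases h : i < 239520
  · exact allFrom_iff.1 lab_part31_2 i (by omega) (by omega)
  by_cases h : i < 240000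
  · exact allFrom_iff.1 lab_part31_3 i (by omega) (by omega)
  by_cases h : i < 240480
  · exact allFrom_iff.1 lab_part31_4 i (by omega) (by omega)
  by_cases h : i < 240960
  · exact allFrom_iff.1 lab_part31_5 i (by omega) (by omega)
  by_cases h : i < 241440
  · exact allFrom_iff.1 lab_part31_6 i (by omega) (by omega)
  by_cases h : i < 241920
  · exact allFrom_iff.1 lab_part31_7 i (by omega) (by omega)
  by_cases h : i < 242400
  · exact allFrom_iff.1 lab_part31_8 i (by omega) (by omega)
  by_cases h : i < 242880
  · exact allFrom_iff.1 lab_part31_9 i (by omega) (by omega)
  by_cases h : i < 243360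
  · exact allFrom_iff.1 lab_part31_10 i (by omega) (by omega)
  by_cases h : i < 243840
  · exact allFrom_iff.1 lab_part31_11 i (by omega) (by omega)
  by_cases h : i < 244320
  · exact allFrom_iff.1 lab_part31_12 i (by omega) (by omega)
  by_cases h : i < 244800
  · exact allFrom_iff.1 lab_part31_13 i (by omega) (by omega)
  by_cases h : i < 245280
  · exact allFrom_iff.1 lab_part31_14 i (by omega) (by omega)
  exact allFrom_iff.1 lab_part31_15 i (by omega) (by omega)

end Cfsg.Agent.Lib.Fi24Mult27
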