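import Cfsg.Agent.Lib.Fi24Mult27.LowPoints

/-! Checks of the threefold cover, part 32. -/

set_option autoImplicit false
set_option maxRecDepth 20000
set_option Elab.async false

namespace Cfsg.Agent.Lib.Fi24Mult27

open Cfsg.Agent.Lib.CosetEnum (allBelow allFrom allFrom_iff)

theorem lab_part32_0 : allFrom 245760 480 labOk = true := by decide +kernel

theorem lab_part32_1 : allFrom 246240 480 labOk = true := by decide +kernel

theorem lab_part32_2 : allFrom 246720 480 labOk = true := by decide +kernel

theorem lab_part32_3 : allFrom 247200 480 labOk = true := by decide +kernel

theorem lab_part32_4 : allFrom 247680 480 labOk = true := by decide +kernel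

theorem lab_part32_5 : allFrom 248160 480 labOk = true := by decide +kernel

theorem lab_part32_6 : allFrom 248640 480 labOk = true := by decide +kernel

theorem lab_part32_7 : allFrom 249120 480 labOk = true := by decide +kernel

theorem lab_part32_8 : allFrom 249600 480 labOk = true := by decide +kernel

theorem lab_part32_9 : allFrom 250080 480 labOk = true := by decide +kernel

theorem lab_part32_10 : allFrom 250560 480 labOk = true := by decide +kernel

theorem lab_part32_11 : allFrom 251040 480 labOk = true := by decide +kernel

theorem lab_part32_12 : allFrom 251520 480 labOk = true := by decide +kernel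

theorem lab_part32_13 : allFrom 252000 480 labOk = true := by decide +kernel

theorem lab_part32_14 : allFrom 252480 480 labOk = true := by decide +kernel

theorem lab_part32_15 : allFrom 252960 480 labOk = true := by decide +kernel

theorem labRange32 : ∀ i, 245760 ≤ i → i < 253440 → labOk i = true := by
  intro i h1 h2
  by_cases h : i < 246240
  · exact allFrom_iff.1 lab_part32_0 i (by omega) (by omega)
  by_cases h : i < 246720
  · exact allFrom_iff.1 lab_part32_1 i (by omega) (by omega)
  by_cases h : i < 247200
  · exact allFrom_iff.1 lab_part32_2 i (by omega) (by omega)
  by_cases h : i < 247680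
  · exact allFrom_iff.1 lab_part32_3 i (by omega) (by omega)
  by_cases h : i < 248160
  · exact allFrom_iff.1 lab_part32_4 i (by omega) (by omega)
  by_cases h : i < 248640
  · exact allFrom_iff.1 lab_part32_5 i (by omega) (by omega)
  by_cases h : i < 249120
  · exact allFrom_iff.1 lab_part32_6 i (by omega) (by omega)
  by_cases h : i < 249600
  · exact allFrom_iff.1 lab_part32_7 i (by omega) (by omega)
  by_cases h : i < 250080
  · exact allFrom_iff.1 lab_part32_8 i (by omega) (by omega)
  by_cases h : i < 250560
  · exact allFrom_iff.1 lab_part32_9 i (by omega) (by omega)
  by_cases h : i < 251040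
  · exact allFrom_iff.1 lab_part32_10 i (by omega) (by omega)
  by_cases h : i < 251520
  · exact allFrom_iff.1 lab_part32_11 i (by omega) (by omega)
  by_cases h : i < 252000
  · exact allFrom_iff.1 lab_part32_12 i (by omega) (by omega)
  by_cases h : i < 252480
  · exact allFrom_iff.1 lab_part32_13 i (by omega) (by omega)
  by_cases h : i < 252960
  · exact allFrom_iff.1 lab_part32_14 i (by omega) (by omega)
  exact allFrom_iff.1 lab_part32_15 i (by omega) (by omega)

end Cfsg.Agent.Lib.Fi24Mult27
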