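import Cfsg.Agent.Lib.Fi24Mult27.LowPoints

/-! Checks of the threefold cover, part 33. -/

set_option autoImplicit false
set_option maxRecDepth 20000
set_option Elab.async false

namespace Cfsg.Agent.Lib.Fi24Mult27

open Cfsg.Agent.Lib.CosetEnum (allBelow allFrom allFrom_iff)

theorem lab_part33_0 : allFrom 253440 480 labOk = true := by decide +kernel

theorem lab_part33_1 : allFrom 253920 480 labOk = true := by decide +kernel

theorem lab_part33_2 : allFrom 254400 480 labOk = true := by decide +kernel

theorem lab_part33_3 : allFrom 254880 480 labOk = true := by decide +kernel

theorem lab_part33_4 : allFrom 255360 480 labOk = true := by decide +kernel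

theorem lab_part33_5 : allFrom 255840 480 labOk = true := by decide +kernel

theorem lab_part33_6 : allFrom 256320 480 labOk = true := by decide +kernel

theorem lab_part33_7 : allFrom 256800 480 labOk = true := by decide +kernel

theorem lab_part33_8 : allFrom 257280 480 labOk = true := by decide +kernel

theorem lab_part33_9 : allFrom 257760 480 labOk = true := by decide +kernel

theorem lab_part33_10 : allFrom 258240 480 labOk = true := by decide +kernel

theorem lab_part33_11 : allFrom 258720 480 labOk = true := by decide +kernel

theorem lab_part33_12 : allFrom 259200 480 labOk = true := by decide +kernel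

theorem lab_part33_13 : allFrom 259680 480 labOk = true := by decide +kernel

theorem lab_part33_14 : allFrom 260160 480 labOk = true := by decide +kernel

theorem lab_part33_15 : allFrom 260640 480 labOk = true := by decide +kernel

theorem labRange33 : ∀ i, 253440 ≤ i → i < 261120 → labOk i = true := by
  intro i h1 h2
  by_cases h : i < 253920
  · exact allFrom_iff.1 lab_part33_0 i (by omega) (by omega)
  by_cases h : i < 254400
  · exact allFrom_iff.1 lab_part33_1 i (by omega) (by omega)
  by_cases h : i < 254880
  · exact allFrom_iff.1 lab_part33_2 i (by omega) (by omega)
  by_cases h : i < 255360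
  · exact allFrom_iff.1 lab_part33_3 i (by omega) (by omega)
  by_cases h : i < 255840
  · exact allFrom_iff.1 lab_part33_4 i (by omega) (by omega)
  by_cases h : i < 256320
  · exact allFrom_iff.1 lab_part33_5 i (by omega) (by omega)
  by_cases h : i < 256800
  · exact allFrom_iff.1 lab_part33_6 i (by omega) (by omega)
  by_cases h : i < 257280
  · exact allFrom_iff.1 lab_part33_7 i (by omega) (by omega)
  by_cases h : i < 257760
  · exact allFrom_iff.1 lab_part33_8 i (by omega) (by omega)
  by_cases h : i < 258240
  · exact allFrom_iff.1 lab_part33_9 i (by omega) (by omega)
  by_cases h : i < 258720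
  · exact allFrom_iff.1 lab_part33_10 i (by omega) (by omega)
  by_cases h : i < 259200
  · exact allFrom_iff.1 lab_part33_11 i (by omega) (by omega)
  by_cases h : i < 259680
  · exact allFrom_iff.1 lab_part33_12 i (by omega) (by omega)
  by_cases h : i < 260160
  · exact allFrom_iff.1 lab_part33_13 i (by omega) (by omega)
  by_cases h : i < 260640
  · exact allFrom_iff.1 lab_part33_14 i (by omega) (by omega)
  exact allFrom_iff.1 lab_part33_15 i (by omega) (by omega)

end Cfsg.Agent.Lib.Fi24Mult27
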