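import Cfsg.Agent.Lib.Fi24Mult27.LowPoints

/-! Checks of the threefold cover, part 34. -/

set_option autoImplicit false
set_option maxRecDepth 20000
set_option Elab.async false

namespace Cfsg.Agent.Lib.Fi24Mult27

open Cfsg.Agent.Lib.CosetEnum (allBelow allFrom allFrom_iff)

theorem lab_part34_0 : allFrom 261120 480 labOk = true := by decide +kernel

theorem lab_part34_1 : allFrom 261600 480 labOk = true := by decide +kernel

theorem lab_part34_2 : allFrom 262080 480 labOk = true := by decide +kernel

theorem lab_part34_3 : allFrom 262560 480 labOk = true := by decide +kernel

theorem lab_part34_4 : allFrom 263040 480 labOk = true := by decide +kernel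

theorem lab_part34_5 : allFrom 263520 480 labOk = true := by decide +kernel

theorem lab_part34_6 : allFrom 264000 480 labOk = true := by decide +kernel

theorem lab_part34_7 : allFrom 264480 480 labOk = true := by decide +kernel

theorem lab_part34_8 : allFrom 264960 480 labOk = true := by decide +kernel

theorem lab_part34_9 : allFrom 265440 480 labOk = true := by decide +kernel

theorem lab_part34_10 : allFrom 265920 480 labOk = true := by decide +kernel

theorem lab_part34_11 : allFrom 266400 480 labOk = true := by decide +kernel

theorem lab_part34_12 : allFrom 266880 480 labOk = true := by decide +kernel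

theorem lab_part34_13 : allFrom 267360 480 labOk = true := by decide +kernel

theorem lab_part34_14 : allFrom 267840 480 labOk = true := by decide +kernel

theorem lab_part34_15 : allFrom 268320 480 labOk = true := by decide +kernel

theorem labRange34 : ∀ i, 261120 ≤ i → i < 268800 → labOk i = true := by
  intro i h1 h2
  by_cases h : i < 261600
  · exact allFrom_iff.1 lab_part34_0 i (by omega) (by omega)
  by_cases h : i < 262080
  · exact allFrom_iff.1 lab_part34_1 i (by omega) (by omega)
  by_cases h : i < 262560
  · exact allFrom_iff.1 lab_part34_2 i (by omega) (by omega)
  by_cases h : i < 263040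
  · exact allFrom_iff.1 lab_part34_3 i (by omega) (by omega)
  by_cases h : i < 263520
  · exact allFrom_iff.1 lab_part34_4 i (by omega) (by omega)
  by_cases h : i < 264000
  · exact allFrom_iff.1 lab_part34_5 i (by omega) (by omega)
  by_cases h : i < 264480
  · exact allFrom_iff.1 lab_part34_6 i (by omega) (by omega)
  by_cases h : i < 264960
  · exact allFrom_iff.1 lab_part34_7 i (by omega) (by omega)
  by_cases h : i < 265440
  · exact allFrom_iff.1 lab_part34_8 i (by omega) (by omega)
  by_cases h : i < 265920
  · exact allFrom_iff.1 lab_part34_9 i (by omega) (by omega)
  by_cases h : i < 266400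
  · exact allFrom_iff.1 lab_part34_10 i (by omega) (by omega)
  by_cases h : i < 266880
  · exact allFrom_iff.1 lab_part34_11 i (by omega) (by omega)
  by_cases h : i < 267360
  · exact allFrom_iff.1 lab_part34_12 i (by omega) (by omega)
  by_cases h : i < 267840
  · exact allFrom_iff.1 lab_part34_13 i (by omega) (by omega)
  by_cases h : i < 268320
  · exact allFrom_iff.1 lab_part34_14 i (by omega) (by omega)
  exact allFrom_iff.1 lab_part34_15 i (by omega) (by omega)

end Cfsg.Agent.Lib.Fi24Mult27
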