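import Cfsg.Agent.Lib.Fi24Mult27.LowPoints

/-! Checks of the threefold cover, part 35. -/

set_option autoImplicit false
set_option maxRecDepth 20000
set_option Elab.async false

namespace Cfsg.Agent.Lib.Fi24Mult27

open Cfsg.Agent.Lib.CosetEnum (allBelow allFrom allFrom_iff)

theorem lab_part35_0 : allFrom 268800 480 labOk = true := by decide +kernel

theorem lab_part35_1 : allFrom 269280 480 labOk = true := by decide +kernel

theorem lab_part35_2 : allFrom 269760 480 labOk = true := by decide +kernel

theorem lab_part35_3 : allFrom 270240 480 labOk = true := by decide +kernel

theorem lab_part35_4 : allFrom 270720 480 labOk = true := by decide +kernel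

theorem lab_part35_5 : allFrom 271200 480 labOk = true := by decide +kernel

theorem lab_part35_6 : allFrom 271680 480 labOk = true := by decide +kernel

theorem lab_part35_7 : allFrom 272160 480 labOk = true := by decide +kernel

theorem lab_part35_8 : allFrom 272640 480 labOk = true := by decide +kernel

theorem lab_part35_9 : allFrom 273120 480 labOk = true := by decide +kernel

theorem lab_part35_10 : allFrom 273600 480 labOk = true := by decide +kernel

theorem lab_part35_11 : allFrom 274080 480 labOk = true := by decide +kernel

theorem lab_part35_12 : allFrom 274560 480 labOk = true := by decide +kernel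

theorem lab_part35_13 : allFrom 275040 480 labOk = true := by decide +kernel

theorem lab_part35_14 : allFrom 275520 480 labOk = true := by decide +kernel

theorem lab_part35_15 : allFrom 276000 480 labOk = true := by decide +kernel

theorem labRange35 : ∀ i, 268800 ≤ i → i < 276480 → labOk i = true := by
  intro i h1 h2
  by_cases h : i < 269280
  · exact allFrom_iff.1 lab_part35_0 i (by omega) (by omega)
  by_cases h : i < 269760
  · exact allFrom_iff.1 lab_part35_1 i (by omega) (by omega)
  by_cases h : i < 270240
  · exact allFrom_iff.1 lab_part35_2 i (by omega) (by omega)
  by_cases h : i < 270720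
  · exact allFrom_iff.1 lab_part35_3 i (by omega) (by omega)
  by_cases h : i < 271200
  · exact allFrom_iff.1 lab_part35_4 i (by omega) (by omega)
  by_cases h : i < 271680
  · exact allFrom_iff.1 lab_part35_5 i (by omega) (by omega)
  by_cases h : i < 272160
  · exact allFrom_iff.1 lab_part35_6 i (by omega) (by omega)
  by_cases h : i < 272640
  · exact allFrom_iff.1 lab_part35_7 i (by omega) (by omega)
  by_cases h : i < 273120
  · exact allFrom_iff.1 lab_part35_8 i (by omega) (by omega)
  by_cases h : i < 273600
  · exact allFrom_iff.1 lab_part35_9 i (by omega) (by omega)
  by_cases h : i < 274080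
  · exact allFrom_iff.1 lab_part35_10 i (by omega) (by omega)
  by_cases h : i < 274560
  · exact allFrom_iff.1 lab_part35_11 i (by omega) (by omega)
  by_cases h : i < 275040
  · exact allFrom_iff.1 lab_part35_12 i (by omega) (by omega)
  by_cases h : i < 275520
  · exact allFrom_iff.1 lab_part35_13 i (by omega) (by omega)
  by_cases h : i < 276000
  · exact allFrom_iff.1 lab_part35_14 i (by omega) (by omega)
  exact allFrom_iff.1 lab_part35_15 i (by omega) (by omega)

end Cfsg.Agent.Lib.Fi24Mult27
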