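import Cfsg.Agent.Lib.Fi24Mult27.LowPoints

/-! Checks of the threefold cover, part 36. -/

set_option autoImplicit false
set_option maxRecDepth 20000
set_option Elab.async false

namespace Cfsg.Agent.Lib.Fi24Mult27

open Cfsg.Agent.Lib.CosetEnum (allBelow allFrom allFrom_iff)

theorem lab_part36_0 : allFrom 276480 480 labOk = true := by decide +kernel

theorem lab_part36_1 : allFrom 276960 480 labOk = true := by decide +kernel

theorem lab_part36_2 : allFrom 277440 480 labOk = true := by decide +kernel

theorem lab_part36_3 : allFrom 277920 480 labOk = true := by decide +kernel

theorem lab_part36_4 : allFrom 278400 480 labOk = true := by decide +kernel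

theorem lab_part36_5 : allFrom 278880 480 labOk = true := by decide +kernel

theorem lab_part36_6 : allFrom 279360 480 labOk = true := by decide +kernel

theorem lab_part36_7 : allFrom 279840 480 labOk = true := by decide +kernel

theorem lab_part36_8 : allFrom 280320 480 labOk = true := by decide +kernel

theorem lab_part36_9 : allFrom 280800 480 labOk = true := by decide +kernel

theorem lab_part36_10 : allFrom 281280 480 labOk = true := by decide +kernel

theorem lab_part36_11 : allFrom 281760 480 labOk = true := by decide +kernel

theorem lab_part36_12 : allFrom 282240 480 labOk = true := by decide +kernel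

theorem lab_part36_13 : allFrom 282720 480 labOk = true := by decide +kernel

theorem lab_part36_14 : allFrom 283200 480 labOk = true := by decide +kernel

theorem lab_part36_15 : allFrom 283680 480 labOk = true := by decide +kernel

theorem labRange36 : ∀ i, 276480 ≤ i → i < 284160 → labOk i = true := by
  intro i h1 h2
  by_cases h : i < 276960
  · exact allFrom_iff.1 lab_part36_0 i (by omega) (by omega)
  by_cases h : i < 277440
  · exact allFrom_iff.1 lab_part36_1 i (by omega) (by omega)
  by_cases h : i < 277920
  · exact allFrom_iff.1 lab_part36_2 i (by omega) (by omega)
  by_cases h : i < 278400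
  · exact allFrom_iff.1 lab_part36_3 i (by omega) (by omega)
  by_cases h : i < 278880
  · exact allFrom_iff.1 lab_part36_4 i (by omega) (by omega)
  by_cases h : i < 279360
  · exact allFrom_iff.1 lab_part36_5 i (by omega) (by omega)
  by_cases h : i < 279840
  · exact allFrom_iff.1 lab_part36_6 i (by omega) (by omega)
  by_cases h : i < 280320
  · exact allFrom_iff.1 lab_part36_7 i (by omega) (by omega)
  by_cases h : i < 280800
  · exact allFrom_iff.1 lab_part36_8 i (by omega) (by omega)
  by_cases h : i < 281280
  · exact allFrom_iff.1 lab_part36_9 i (by omega) (by omega)
  by_cases h : i < 281760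
  · exact allFrom_iff.1 lab_part36_10 i (by omega) (by omega)
  by_cases h : i < 282240
  · exact allFrom_iff.1 lab_part36_11 i (by omega) (by omega)
  by_cases h : i < 282720
  · exact allFrom_iff.1 lab_part36_12 i (by omega) (by omega)
  by_cases h : i < 283200
  · exact allFrom_iff.1 lab_part36_13 i (by omega) (by omega)
  by_cases h : i < 283680
  · exact allFrom_iff.1 lab_part36_14 i (by omega) (by omega)
  exact allFrom_iff.1 lab_part36_15 i (by omega) (by omega)

end Cfsg.Agent.Lib.Fi24Mult27
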