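import Cfsg.Agent.Lib.Fi24Mult27.LowPoints

/-! Checks of the threefold cover, part 37. -/

set_option autoImplicit false
set_option maxRecDepth 20000
set_option Elab.async false

namespace Cfsg.Agent.Lib.Fi24Mult27

open Cfsg.Agent.Lib.CosetEnum (allBelow allFrom allFrom_iff)

theorem lab_part37_0 : allFrom 284160 480 labOk = true := by decide +kernel

theorem lab_part37_1 : allFrom 284640 480 labOk = true := by decide +kernel

theorem lab_part37_2 : allFrom 285120 480 labOk = true := by decide +kernel

theorem lab_part37_3 : allFrom 285600 480 labOk = true := by decide +kernel

theorem lab_part37_4 : allFrom 286080 480 labOk = true := by decide +kernel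

theorem lab_part37_5 : allFrom 286560 480 labOk = true := by decide +kernel

theorem lab_part37_6 : allFrom 287040 480 labOk = true := by decide +kernel

theorem lab_part37_7 : allFrom 287520 480 labOk = true := by decide +kernel

theorem lab_part37_8 : allFrom 288000 480 labOk = true := by decide +kernel

theorem lab_part37_9 : allFrom 288480 480 labOk = true := by decide +kernel

theorem lab_part37_10 : allFrom 288960 480 labOk = true := by decide +kernel

theorem lab_part37_11 : allFrom 289440 480 labOk = true := by decide +kernel

theorem lab_part37_12 : allFrom 289920 480 labOk = true := by decide +kernel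

theorem lab_part37_13 : allFrom 290400 480 labOk = true := by decide +kernel

theorem lab_part37_14 : allFrom 290880 480 labOk = true := by decide +kernel

theorem lab_part37_15 : allFrom 291360 480 labOk = true := by decide +kernel

theorem labRange37 : ∀ i, 284160 ≤ i → i < 291840 → labOk i = true := by
  intro i h1 h2
  by_cases h : i < 284640
  · exact allFrom_iff.1 lab_part37_0 i (by omega) (by omega)
  by_cases h : i < 285120
  · exact allFrom_iff.1 lab_part37_1 i (by omega) (by omega)
  by_cases h : i < 285600
  · exact allFrom_iff.1 lab_part37_2 i (by omega) (by omega)
  by_cases h : i < 286080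
  · exact allFrom_iff.1 lab_part37_3 i (by omega) (by omega)
  by_cases h : i < 286560
  · exact allFrom_iff.1 lab_part37_4 i (by omega) (by omega)
  by_cases h : i < 287040
  · exact allFrom_iff.1 lab_part37_5 i (by omega) (by omega)
  by_cases h : i < 287520
  · exact allFrom_iff.1 lab_part37_6 i (by omega) (by omega)
  by_cases h : i < 288000
  · exact allFrom_iff.1 lab_part37_7 i (by omega) (by omega)
  by_cases h : i < 288480
  · exact allFrom_iff.1 lab_part37_8 i (by omega) (by omega)
  by_cases h : i < 288960
  · exact allFrom_iff.1 lab_part37_9 i (by omega) (by omega)
  by_cases h : i < 289440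
  · exact allFrom_iff.1 lab_part37_10 i (by omega) (by omega)
  by_cases h : i < 289920
  · exact allFrom_iff.1 lab_part37_11 i (by omega) (by omega)
  by_cases h : i < 290400
  · exact allFrom_iff.1 lab_part37_12 i (by omega) (by omega)
  by_cases h : i < 290880
  · exact allFrom_iff.1 lab_part37_13 i (by omega) (by omega)
  by_cases h : i < 291360
  · exact allFrom_iff.1 lab_part37_14 i (by omega) (by omega)
  exact allFrom_iff.1 lab_part37_15 i (by omega) (by omega)

end Cfsg.Agent.Lib.Fi24Mult27
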