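import Cfsg.Agent.Lib.Fi24Mult27.LowPoints

/-! Checks of the threefold cover, part 38. -/

set_option autoImplicit false
set_option maxRecDepth 20000
set_option Elab.async false

namespace Cfsg.Agent.Lib.Fi24Mult27

open Cfsg.Agent.Lib.CosetEnum (allBelow allFrom allFrom_iff)

theorem lab_part38_0 : allFrom 291840 480 labOk = true := by decide +kernel

theorem lab_part38_1 : allFrom 292320 480 labOk = true := by decide +kernel

theorem lab_part38_2 : allFrom 292800 480 labOk = true := by decide +kernel

theorem lab_part38_3 : allFrom 293280 480 labOk = true := by decide +kernel

theorem lab_part38_4 : allFrom 293760 480 labOk = true := by decide +kernel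

theorem lab_part38_5 : allFrom 294240 480 labOk = true := by decide +kernel

theorem lab_part38_6 : allFrom 294720 480 labOk = true := by decide +kernel

theorem lab_part38_7 : allFrom 295200 480 labOk = true := by decide +kernel

theorem lab_part38_8 : allFrom 295680 480 labOk = true := by decide +kernel

theorem lab_part38_9 : allFrom 296160 480 labOk = true := by decide +kernel

theorem lab_part38_10 : allFrom 296640 480 labOk = true := by decide +kernel

theorem lab_part38_11 : allFrom 297120 480 labOk = true := by decide +kernel

theorem lab_part38_12 : allFrom 297600 480 labOk = true := by decide +kernel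

theorem lab_part38_13 : allFrom 298080 480 labOk = true := by decide +kernel

theorem lab_part38_14 : allFrom 298560 480 labOk = true := by decide +kernel

theorem lab_part38_15 : allFrom 299040 480 labOk = true := by decide +kernel

theorem labRange38 : ∀ i, 291840 ≤ i → i < 299520 → labOk i = true := by
  intro i h1 h2
  by_cases h : i < 292320
  · exact allFrom_iff.1 lab_part38_0 i (by omega) (by omega)
  by_cases h : i < 292800
  · exact allFrom_iff.1 lab_part38_1 i (by omega) (by omega)
  by_cases h : i < 293280
  · exact allFrom_iff.1 lab_part38_2 i (by omega) (by omega)
  by_cases h : i < 293760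
  · exact allFrom_iff.1 lab_part38_3 i (by omega) (by omega)
  by_cases h : i < 294240
  · exact allFrom_iff.1 lab_part38_4 i (by omega) (by omega)
  by_cases h : i < 294720
  · exact allFrom_iff.1 lab_part38_5 i (by omega) (by omega)
  by_cases h : i < 295200
  · exact allFrom_iff.1 lab_part38_6 i (by omega) (by omega)
  by_cases h : i < 295680
  · exact allFrom_iff.1 lab_part38_7 i (by omega) (by omega)
  by_cases h : i < 296160
  · exact allFrom_iff.1 lab_part38_8 i (by omega) (by omega)
  by_cases h : i < 296640
  · exact allFrom_iff.1 lab_part38_9 i (by omega) (by omega)
  by_cases h : i < 297120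
  · exact allFrom_iff.1 lab_part38_10 i (by omega) (by omega)
  by_cases h : i < 297600
  · exact allFrom_iff.1 lab_part38_11 i (by omega) (by omega)
  by_cases h : i < 298080
  · exact allFrom_iff.1 lab_part38_12 i (by omega) (by omega)
  by_cases h : i < 298560
  · exact allFrom_iff.1 lab_part38_13 i (by omega) (by omega)
  by_cases h : i < 299040
  · exact allFrom_iff.1 lab_part38_14 i (by omega) (by omega)
  exact allFrom_iff.1 lab_part38_15 i (by omega) (by omega)

end Cfsg.Agent.Lib.Fi24Mult27
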