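import Cfsg.Agent.Lib.Fi24Mult27.LowPoints

/-! Checks of the threefold cover, part 39. -/

set_option autoImplicit false
set_option maxRecDepth 20000
set_option Elab.async false

namespace Cfsg.Agent.Lib.Fi24Mult27

open Cfsg.Agent.Lib.CosetEnum (allBelow allFrom allFrom_iff)

theorem lab_part39_0 : allFrom 299520 480 labOk = true := by decide +kernel

theorem lab_part39_1 : allFrom 300000 480 labOk = true := by decide +kernel

theorem lab_part39_2 : allFrom 300480 480 labOk = true := by decide +kernel

theorem lab_part39_3 : allFrom 300960 480 labOk = true := by decide +kernel

theorem lab_part39_4 : allFrom 301440 480 labOk = true := by decide +kernel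

theorem lab_part39_5 : allFrom 301920 480 labOk = true := by decide +kernel

theorem lab_part39_6 : allFrom 302400 480 labOk = true := by decide +kernel

theorem lab_part39_7 : allFrom 302880 480 labOk = true := by decide +kernel

theorem lab_part39_8 : allFrom 303360 480 labOk = true := by decide +kernel

theorem lab_part39_9 : allFrom 303840 480 labOk = true := by decide +kernel

theorem lab_part39_10 : allFrom 304320 480 labOk = true := by decide +kernel

theorem lab_part39_11 : allFrom 304800 480 labOk = true := by decide +kernel

theorem lab_part39_12 : allFrom 305280 480 labOk = true := by decide +kernel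

theorem lab_part39_13 : allFrom 305760 480 labOk = true := by decide +kernel

theorem lab_part39_14 : allFrom 306240 480 labOk = true := by decide +kernel

theorem lab_part39_15 : allFrom 306720 216 labOk = true := by decide +kernel

theorem labRange39 : ∀ i, 299520 ≤ i → i < 306936 → labOk i = true := by
  intro i h1 h2
  by_cases h : i < 300000
  · exact allFrom_iff.1 lab_part39_0 i (by omega) (by omega)
  by_cases h : i < 300480
  · exact allFrom_iff.1 lab_part39_1 i (by omega) (by omega)
  by_cases h : i < 300960
  · exact allFrom_iff.1 lab_part39_2 i (by omega) (by omega)
  by_cases h : i < 301440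
  · exact allFrom_iff.1 lab_part39_3 i (by omega) (by omega)
  by_cases h : i < 301920
  · exact allFrom_iff.1 lab_part39_4 i (by omega) (by omega)
  by_cases h : i < 302400
  · exact allFrom_iff.1 lab_part39_5 i (by omega) (by omega)
  by_cases h : i < 302880
  · exact allFrom_iff.1 lab_part39_6 i (by omega) (by omega)
  by_cases h : i < 303360
  · exact allFrom_iff.1 lab_part39_7 i (by omega) (by omega)
  by_cases h : i < 303840
  · exact allFrom_iff.1 lab_part39_8 i (by omega) (by omega)
  by_cases h : i < 304320
  · exact allFrom_iff.1 lab_part39_9 i (by omega) (by omega)
  by_cases h : i < 304800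
  · exact allFrom_iff.1 lab_part39_10 i (by omega) (by omega)
  by_cases h : i < 305280
  · exact allFrom_iff.1 lab_part39_11 i (by omega) (by omega)
  by_cases h : i < 305760
  · exact allFrom_iff.1 lab_part39_12 i (by omega) (by omega)
  by_cases h : i < 306240
  · exact allFrom_iff.1 lab_part39_13 i (by omega) (by omega)
  by_cases h : i < 306720
  · exact allFrom_iff.1 lab_part39_14 i (by omega) (by omega)
  exact allFrom_iff.1 lab_part39_15 i (by omega) (by omega)

end Cfsg.Agent.Lib.Fi24Mult27
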