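import Cfsg.Agent.Lib.Fi24Mult27.LowPoints

/-! Checks of the threefold cover, part 4. -/

set_option autoImplicit false
set_option maxRecDepth 20000
set_option Elab.async false

namespace Cfsg.Agent.Lib.Fi24Mult27

open Cfsg.Agent.Lib.CosetEnum (allBelow allFrom allFrom_iff)

theorem lab_part4_0 : allFrom 30720 480 labOk = true := by decide +kernel

theorem lab_part4_1 : allFrom 31200 480 labOk = true := by decide +kernel

theorem lab_part4_2 : allFrom 31680 480 labOk = true := by decide +kernel

theorem lab_part4_3 : allFrom 32160 480 labOk = true := by decide +kernel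

theorem lab_part4_4 : allFrom 32640 480 labOk = true := by decide +kernel

theorem lab_part4_5 : allFrom 33120 480 labOk = true := by decide +kernel

theorem lab_part4_6 : allFrom 33600 480 labOk = true := by decide +kernel

theorem lab_part4_7 : allFrom 34080 480 labOk = true := by decide +kernel

theorem lab_part4_8 : allFrom 34560 480 labOk = true := by decide +kernel

theorem lab_part4_9 : allFrom 35040 480 labOk = true := by decide +kernel

theorem lab_part4_10 : allFrom 35520 480 labOk = true := by decide +kernel

theorem lab_part4_11 : allFrom 36000 480 labOk = true := by decide +kernel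

theorem lab_part4_12 : allFrom 36480 480 labOk = true := by decide +kernel

theorem lab_part4_13 : allFrom 36960 480 labOk = true := by decide +kernel

theorem lab_part4_14 : allFrom 37440 480 labOk = true := by decide +kernel

theorem lab_part4_15 : allFrom 37920 480 labOk = true := by decide +kernel

theorem labRange4 : ∀ i, 30720 ≤ i → i < 38400 → labOk i = true := by
  intro i h1 h2
  by_cases h : i < 31200
  · exact allFrom_iff.1 lab_part4_0 i (by omega) (by omega)
  by_cases h : i < 31680
  · exact allFrom_iff.1 lab_part4_1 i (by omega) (by omega)
  by_cases h : i < 32160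
  · exact allFrom_iff.1 lab_part4_2 i (by omega) (by omega)
  by_cases h : i < 32640
  · exact allFrom_iff.1 lab_part4_3 i (by omega) (by omega)
  by_cases h : i < 33120
  · exact allFrom_iff.1 lab_part4_4 i (by omega) (by omega)
  by_cases h : i < 33600
  · exact allFrom_iff.1 lab_part4_5 i (by omega) (by omega)
  by_cases h : i < 34080
  · exact allFrom_iff.1 lab_part4_6 i (by omega) (by omega)
  by_cases h : i < 34560
  · exact allFrom_iff.1 lab_part4_7 i (by omega) (by omega)
  by_cases h : i < 35040
  · exact allFrom_iff.1 lab_part4_8 i (by omega) (by omega)
  by_cases h : i < 35520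
  · exact allFrom_iff.1 lab_part4_9 i (by omega) (by omega)
  by_cases h : i < 36000
  · exact allFrom_iff.1 lab_part4_10 i (by omega) (by omega)
  by_cases h : i < 36480
  · exact allFrom_iff.1 lab_part4_11 i (by omega) (by omega)
  by_cases h : i < 36960
  · exact allFrom_iff.1 lab_part4_12 i (by omega) (by omega)
  by_cases h : i < 37440
  · exact allFrom_iff.1 lab_part4_13 i (by omega) (by omega)
  by_cases h : i < 37920
  · exact allFrom_iff.1 lab_part4_14 i (by omega) (by omega)
  exact allFrom_iff.1 lab_part4_15 i (by omega) (by omega)

end Cfsg.Agent.Lib.Fi24Mult27
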