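import Cfsg.Agent.Lib.Fi24Mult27.LowPoints

/-! Checks of the threefold cover, part 5. -/

set_option autoImplicit false
set_option maxRecDepth 20000
set_option Elab.async false

namespace Cfsg.Agent.Lib.Fi24Mult27

open Cfsg.Agent.Lib.CosetEnum (allBelow allFrom allFrom_iff)

theorem lab_part5_0 : allFrom 38400 480 labOk = true := by decide +kernel

theorem lab_part5_1 : allFrom 38880 480 labOk = true := by decide +kernel

theorem lab_part5_2 : allFrom 39360 480 labOk = true := by decide +kernel

theorem lab_part5_3 : allFrom 39840 480 labOk = true := by decide +kernel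

theorem lab_part5_4 : allFrom 40320 480 labOk = true := by decide +kernel

theorem lab_part5_5 : allFrom 40800 480 labOk = true := by decide +kernel

theorem lab_part5_6 : allFrom 41280 480 labOk = true := by decide +kernel

theorem lab_part5_7 : allFrom 41760 480 labOk = true := by decide +kernel

theorem lab_part5_8 : allFrom 42240 480 labOk = true := by decide +kernel

theorem lab_part5_9 : allFrom 42720 480 labOk = true := by decide +kernel

theorem lab_part5_10 : allFrom 43200 480 labOk = true := by decide +kernel

theorem lab_part5_11 : allFrom 43680 480 labOk = true := by decide +kernel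

theorem lab_part5_12 : allFrom 44160 480 labOk = true := by decide +kernel

theorem lab_part5_13 : allFrom 44640 480 labOk = true := by decide +kernel

theorem lab_part5_14 : allFrom 45120 480 labOk = true := by decide +kernel

theorem lab_part5_15 : allFrom 45600 480 labOk = true := by decide +kernel

theorem labRange5 : ∀ i, 38400 ≤ i → i < 46080 → labOk i = true := by
  intro i h1 h2
  by_cases h : i < 38880
  · exact allFrom_iff.1 lab_part5_0 i (by omega) (by omega)
  by_cases h : i < 39360
  · exact allFrom_iff.1 lab_part5_1 i (by omega) (by omega)
  by_cases h : i < 39840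
  · exact allFrom_iff.1 lab_part5_2 i (by omega) (by omega)
  by_cases h : i < 40320
  · exact allFrom_iff.1 lab_part5_3 i (by omega) (by omega)
  by_cases h : i < 40800
  · exact allFrom_iff.1 lab_part5_4 i (by omega) (by omega)
  by_cases h : i < 41280
  · exact allFrom_iff.1 lab_part5_5 i (by omega) (by omega)
  by_cases h : i < 41760
  · exact allFrom_iff.1 lab_part5_6 i (by omega) (by omega)
  by_cases h : i < 42240
  · exact allFrom_iff.1 lab_part5_7 i (by omega) (by omega)
  by_cases h : i < 42720
  · exact allFrom_iff.1 lab_part5_8 i (by omega) (by omega)
  by_cases h : i < 43200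
  · exact allFrom_iff.1 lab_part5_9 i (by omega) (by omega)
  by_cases h : i < 43680
  · exact allFrom_iff.1 lab_part5_10 i (by omega) (by omega)
  by_cases h : i < 44160
  · exact allFrom_iff.1 lab_part5_11 i (by omega) (by omega)
  by_cases h : i < 44640
  · exact allFrom_iff.1 lab_part5_12 i (by omega) (by omega)
  by_cases h : i < 45120
  · exact allFrom_iff.1 lab_part5_13 i (by omega) (by omega)
  by_cases h : i < 45600
  · exact allFrom_iff.1 lab_part5_14 i (by omega) (by omega)
  exact allFrom_iff.1 lab_part5_15 i (by omega) (by omega)

end Cfsg.Agent.Lib.Fi24Mult27
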