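import Cfsg.Agent.Lib.Fi24Mult27.LowPoints

/-! Checks of the threefold cover, part 6. -/

set_option autoImplicit false
set_option maxRecDepth 20000
set_option Elab.async false

namespace Cfsg.Agent.Lib.Fi24Mult27

open Cfsg.Agent.Lib.CosetEnum (allBelow allFrom allFrom_iff)

theorem lab_part6_0 : allFrom 46080 480 labOk = true := by decide +kernel

theorem lab_part6_1 : allFrom 46560 480 labOk = true := by decide +kernel

theorem lab_part6_2 : allFrom 47040 480 labOk = true := by decide +kernel

theorem lab_part6_3 : allFrom 47520 480 labOk = true := by decide +kernel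

theorem lab_part6_4 : allFrom 48000 480 labOk = true := by decide +kernel

theorem lab_part6_5 : allFrom 48480 480 labOk = true := by decide +kernel

theorem lab_part6_6 : allFrom 48960 480 labOk = true := by decide +kernel

theorem lab_part6_7 : allFrom 49440 480 labOk = true := by decide +kernel

theorem lab_part6_8 : allFrom 49920 480 labOk = true := by decide +kernel

theorem lab_part6_9 : allFrom 50400 480 labOk = true := by decide +kernel

theorem lab_part6_10 : allFrom 50880 480 labOk = true := by decide +kernel

theorem lab_part6_11 : allFrom 51360 480 labOk = true := by decide +kernel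

theorem lab_part6_12 : allFrom 51840 480 labOk = true := by decide +kernel

theorem lab_part6_13 : allFrom 52320 480 labOk = true := by decide +kernel

theorem lab_part6_14 : allFrom 52800 480 labOk = true := by decide +kernel

theorem lab_part6_15 : allFrom 53280 480 labOk = true := by decide +kernel

theorem labRange6 : ∀ i, 46080 ≤ i → i < 53760 → labOk i = true := by
  intro i h1 h2
  by_cases h : i < 46560
  · exact allFrom_iff.1 lab_part6_0 i (by omega) (by omega)
  by_cases h : i < 47040
  · exact allFrom_iff.1 lab_part6_1 i (by omega) (by omega)
  by_cases h : i < 47520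
  · exact allFrom_iff.1 lab_part6_2 i (by omega) (by omega)
  by_cases h : i < 48000
  · exact allFrom_iff.1 lab_part6_3 i (by omega) (by omega)
  by_cases h : i < 48480
  · exact allFrom_iff.1 lab_part6_4 i (by omega) (by omega)
  by_cases h : i < 48960
  · exact allFrom_iff.1 lab_part6_5 i (by omega) (by omega)
  by_cases h : i < 49440
  · exact allFrom_iff.1 lab_part6_6 i (by omega) (by omega)
  by_cases h : i < 49920
  · exact allFrom_iff.1 lab_part6_7 i (by omega) (by omega)
  by_cases h : i < 50400
  · exact allFrom_iff.1 lab_part6_8 i (by omega) (by omega)
  by_cases h : i < 50880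
  · exact allFrom_iff.1 lab_part6_9 i (by omega) (by omega)
  by_cases h : i < 51360
  · exact allFrom_iff.1 lab_part6_10 i (by omega) (by omega)
  by_cases h : i < 51840
  · exact allFrom_iff.1 lab_part6_11 i (by omega) (by omega)
  by_cases h : i < 52320
  · exact allFrom_iff.1 lab_part6_12 i (by omega) (by omega)
  by_cases h : i < 52800
  · exact allFrom_iff.1 lab_part6_13 i (by omega) (by omega)
  by_cases h : i < 53280
  · exact allFrom_iff.1 lab_part6_14 i (by omega) (by omega)
  exact allFrom_iff.1 lab_part6_15 i (by omega) (by omega)

end Cfsg.Agent.Lib.Fi24Mult27
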