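import Cfsg.Agent.Lib.Fi24Mult27.LowPoints

/-! Checks of the threefold cover, part 7. -/

set_option autoImplicit false
set_option maxRecDepth 20000
set_option Elab.async false

namespace Cfsg.Agent.Lib.Fi24Mult27

open Cfsg.Agent.Lib.CosetEnum (allBelow allFrom allFrom_iff)

theorem lab_part7_0 : allFrom 53760 480 labOk = true := by decide +kernel

theorem lab_part7_1 : allFrom 54240 480 labOk = true := by decide +kernel

theorem lab_part7_2 : allFrom 54720 480 labOk = true := by decide +kernel

theorem lab_part7_3 : allFrom 55200 480 labOk = true := by decide +kernel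

theorem lab_part7_4 : allFrom 55680 480 labOk = true := by decide +kernel

theorem lab_part7_5 : allFrom 56160 480 labOk = true := by decide +kernel

theorem lab_part7_6 : allFrom 56640 480 labOk = true := by decide +kernel

theorem lab_part7_7 : allFrom 57120 480 labOk = true := by decide +kernel

theorem lab_part7_8 : allFrom 57600 480 labOk = true := by decide +kernel

theorem lab_part7_9 : allFrom 58080 480 labOk = true := by decide +kernel

theorem lab_part7_10 : allFrom 58560 480 labOk = true := by decide +kernel

theorem lab_part7_11 : allFrom 59040 480 labOk = true := by decide +kernel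

theorem lab_part7_12 : allFrom 59520 480 labOk = true := by decide +kernel

theorem lab_part7_13 : allFrom 60000 480 labOk = true := by decide +kernel

theorem lab_part7_14 : allFrom 60480 480 labOk = true := by decide +kernel

theorem lab_part7_15 : allFrom 60960 480 labOk = true := by decide +kernel

theorem labRange7 : ∀ i, 53760 ≤ i → i < 61440 → labOk i = true := by
  intro i h1 h2
  by_cases h : i < 54240
  · exact allFrom_iff.1 lab_part7_0 i (by omega) (by omega)
  by_cases h : i < 54720
  · exact allFrom_iff.1 lab_part7_1 i (by omega) (by omega)
  by_cases h : i < 55200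
  · exact allFrom_iff.1 lab_part7_2 i (by omega) (by omega)
  by_cases h : i < 55680
  · exact allFrom_iff.1 lab_part7_3 i (by omega) (by omega)
  by_cases h : i < 56160
  · exact allFrom_iff.1 lab_part7_4 i (by omega) (by omega)
  by_cases h : i < 56640
  · exact allFrom_iff.1 lab_part7_5 i (by omega) (by omega)
  by_cases h : i < 57120
  · exact allFrom_iff.1 lab_part7_6 i (by omega) (by omega)
  by_cases h : i < 57600
  · exact allFrom_iff.1 lab_part7_7 i (by omega) (by omega)
  by_cases h : i < 58080
  · exact allFrom_iff.1 lab_part7_8 i (by omega) (by omega)
  by_cases h : i < 58560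
  · exact allFrom_iff.1 lab_part7_9 i (by omega) (by omega)
  by_cases h : i < 59040
  · exact allFrom_iff.1 lab_part7_10 i (by omega) (by omega)
  by_cases h : i < 59520
  · exact allFrom_iff.1 lab_part7_11 i (by omega) (by omega)
  by_cases h : i < 60000
  · exact allFrom_iff.1 lab_part7_12 i (by omega) (by omega)
  by_cases h : i < 60480
  · exact allFrom_iff.1 lab_part7_13 i (by omega) (by omega)
  by_cases h : i < 60960
  · exact allFrom_iff.1 lab_part7_14 i (by omega) (by omega)
  exact allFrom_iff.1 lab_part7_15 i (by omega) (by omega)

end Cfsg.Agent.Lib.Fi24Mult27
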