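import Cfsg.Agent.Lib.Fi24Mult27.LowPoints

/-! Checks of the threefold cover, part 8. -/

set_option autoImplicit false
set_option maxRecDepth 20000
set_option Elab.async false

namespace Cfsg.Agent.Lib.Fi24Mult27

open Cfsg.Agent.Lib.CosetEnum (allBelow allFrom allFrom_iff)

theorem lab_part8_0 : allFrom 61440 480 labOk = true := by decide +kernel

theorem lab_part8_1 : allFrom 61920 480 labOk = true := by decide +kernel

theorem lab_part8_2 : allFrom 62400 480 labOk = true := by decide +kernel

theorem lab_part8_3 : allFrom 62880 480 labOk = true := by decide +kernel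

theorem lab_part8_4 : allFrom 63360 480 labOk = true := by decide +kernel

theorem lab_part8_5 : allFrom 63840 480 labOk = true := by decide +kernel

theorem lab_part8_6 : allFrom 64320 480 labOk = true := by decide +kernel

theorem lab_part8_7 : allFrom 64800 480 labOk = true := by decide +kernel

theorem lab_part8_8 : allFrom 65280 480 labOk = true := by decide +kernel

theorem lab_part8_9 : allFrom 65760 480 labOk = true := by decide +kernel

theorem lab_part8_10 : allFrom 66240 480 labOk = true := by decide +kernel

theorem lab_part8_11 : allFrom 66720 480 labOk = true := by decide +kernel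

theorem lab_part8_12 : allFrom 67200 480 labOk = true := by decide +kernel

theorem lab_part8_13 : allFrom 67680 480 labOk = true := by decide +kernel

theorem lab_part8_14 : allFrom 68160 480 labOk = true := by decide +kernel

theorem lab_part8_15 : allFrom 68640 480 labOk = true := by decide +kernel

theorem labRange8 : ∀ i, 61440 ≤ i → i < 69120 → labOk i = true := by
  intro i h1 h2
  by_cases h : i < 61920
  · exact allFrom_iff.1 lab_part8_0 i (by omega) (by omega)
  by_cases h : i < 62400
  · exact allFrom_iff.1 lab_part8_1 i (by omega) (by omega)
  by_cases h : i < 62880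
  · exact allFrom_iff.1 lab_part8_2 i (by omega) (by omega)
  by_cases h : i < 63360
  · exact allFrom_iff.1 lab_part8_3 i (by omega) (by omega)
  by_cases h : i < 63840
  · exact allFrom_iff.1 lab_part8_4 i (by omega) (by omega)
  by_cases h : i < 64320
  · exact allFrom_iff.1 lab_part8_5 i (by omega) (by omega)
  by_cases h : i < 64800
  · exact allFrom_iff.1 lab_part8_6 i (by omega) (by omega)
  by_cases h : i < 65280
  · exact allFrom_iff.1 lab_part8_7 i (by omega) (by omega)
  by_cases h : i < 65760
  · exact allFrom_iff.1 lab_part8_8 i (by omega) (by omega)
  by_cases h : i < 66240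
  · exact allFrom_iff.1 lab_part8_9 i (by omega) (by omega)
  by_cases h : i < 66720
  · exact allFrom_iff.1 lab_part8_10 i (by omega) (by omega)
  by_cases h : i < 67200
  · exact allFrom_iff.1 lab_part8_11 i (by omega) (by omega)
  by_cases h : i < 67680
  · exact allFrom_iff.1 lab_part8_12 i (by omega) (by omega)
  by_cases h : i < 68160
  · exact allFrom_iff.1 lab_part8_13 i (by omega) (by omega)
  by_cases h : i < 68640
  · exact allFrom_iff.1 lab_part8_14 i (by omega) (by omega)
  exact allFrom_iff.1 lab_part8_15 i (by omega) (by omega)

end Cfsg.Agent.Lib.Fi24Mult27
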