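import Cfsg.Agent.Lib.Fi24Mult27.LowPoints

/-! Checks of the threefold cover, part 9. -/

set_option autoImplicit false
set_option maxRecDepth 20000
set_option Elab.async false

namespace Cfsg.Agent.Lib.Fi24Mult27

open Cfsg.Agent.Lib.CosetEnum (allBelow allFrom allFrom_iff)

theorem lab_part9_0 : allFrom 69120 480 labOk = true := by decide +kernel

theorem lab_part9_1 : allFrom 69600 480 labOk = true := by decide +kernel

theorem lab_part9_2 : allFrom 70080 480 labOk = true := by decide +kernel

theorem lab_part9_3 : allFrom 70560 480 labOk = true := by decide +kernel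

theorem lab_part9_4 : allFrom 71040 480 labOk = true := by decide +kernel

theorem lab_part9_5 : allFrom 71520 480 labOk = true := by decide +kernel

theorem lab_part9_6 : allFrom 72000 480 labOk = true := by decide +kernel

theorem lab_part9_7 : allFrom 72480 480 labOk = true := by decide +kernel

theorem lab_part9_8 : allFrom 72960 480 labOk = true := by decide +kernel

theorem lab_part9_9 : allFrom 73440 480 labOk = true := by decide +kernel

theorem lab_part9_10 : allFrom 73920 480 labOk = true := by decide +kernel

theorem lab_part9_11 : allFrom 74400 480 labOk = true := by decide +kernel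

theorem lab_part9_12 : allFrom 74880 480 labOk = true := by decide +kernel

theorem lab_part9_13 : allFrom 75360 480 labOk = true := by decide +kernel

theorem lab_part9_14 : allFrom 75840 480 labOk = true := by decide +kernel

theorem lab_part9_15 : allFrom 76320 480 labOk = true := by decide +kernel

theorem labRange9 : ∀ i, 69120 ≤ i → i < 76800 → labOk i = true := by
  intro i h1 h2
  by_cases h : i < 69600
  · exact allFrom_iff.1 lab_part9_0 i (by omega) (by omega)
  by_cases h : i < 70080
  · exact allFrom_iff.1 lab_part9_1 i (by omega) (by omega)
  by_cases h : i < 70560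
  · exact allFrom_iff.1 lab_part9_2 i (by omega) (by omega)
  by_cases h : i < 71040
  · exact allFrom_iff.1 lab_part9_3 i (by omega) (by omega)
  by_cases h : i < 71520
  · exact allFrom_iff.1 lab_part9_4 i (by omega) (by omega)
  by_cases h : i < 72000
  · exact allFrom_iff.1 lab_part9_5 i (by omega) (by omega)
  by_cases h : i < 72480
  · exact allFrom_iff.1 lab_part9_6 i (by omega) (by omega)
  by_cases h : i < 72960
  · exact allFrom_iff.1 lab_part9_7 i (by omega) (by omega)
  by_cases h : i < 73440
  · exact allFrom_iff.1 lab_part9_8 i (by omega) (by omega)
  by_cases h : i < 73920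
  · exact allFrom_iff.1 lab_part9_9 i (by omega) (by omega)
  by_cases h : i < 74400
  · exact allFrom_iff.1 lab_part9_10 i (by omega) (by omega)
  by_cases h : i < 74880
  · exact allFrom_iff.1 lab_part9_11 i (by omega) (by omega)
  by_cases h : i < 75360
  · exact allFrom_iff.1 lab_part9_12 i (by omega) (by omega)
  by_cases h : i < 75840
  · exact allFrom_iff.1 lab_part9_13 i (by omega) (by omega)
  by_cases h : i < 76320
  · exact allFrom_iff.1 lab_part9_14 i (by omega) (by omega)
  exact allFrom_iff.1 lab_part9_15 i (by omega) (by omega)

end Cfsg.Agent.Lib.Fi24Mult27
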